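import Mathlib
import Cfsg.Prelude.Def_Characters

/-!
# Core definitions for S3805 (Sylow 3-subgroup `3²`, self-centralizing, Klein four automizer,
`C_G(t) ≤ N_G(T)`): the abstract configuration `S3Cfg` and the class function `cfC`.

`N = N_G(T) ≅ S₃ × S₃` is modelled by `NM = DihedralGroup 3 × DihedralGroup 3`, embedded in `G` by
an injective homomorphism `φ`; the only other hypothesis is that elements of `N` of order `3` or
`6` (`m ^ 2 ≠ 1` in the model) are conjugated into `N` only by elements of `N`.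
-/

set_option autoImplicit false

namespace Cfsg.Agent.Helper16

open DihedralGroup

/-- Model of `N = S₃ × S₃`. -/
abbrev NM := DihedralGroup 3 × DihedralGroup 3

/-- The configuration: `φ : S₃ × S₃ → G` injective, and the elements `φ m` of order `3` or `6`
(i.e. `m ^ 2 ≠ 1`) are conjugated into `φ.range` only by elements of `φ.range`. -/
structure S3Cfg {G : Type*} [Group G] (φ : NM →* G) : Prop where
  inj : Function.Injective φ
  ti : ∀ m : NM, m ^ 2 ≠ 1 → ∀ g : G, g * φ m * g⁻¹ ∈ φ.range → g ∈ φ.range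

/-- Swap of the two factors of the model. -/
def nmSwap : NM →* NM := (MulEquiv.prodComm : NM ≃* NM).toMonoidHom

@[simp] theorem nmSwap_apply (m : NM) : nmSwap m = (m.2, m.1) := rfl

theorem nmSwap_nmSwap (m : NM) : nmSwap (nmSwap m) = m := rfl

theorem S3Cfg.swap {G : Type*} [Group G] {φ : NM →* G} (h : S3Cfg φ) : S3Cfg (φ.comp nmSwap) := by
  have hr : (φ.comp nmSwap).range = φ.range := by
    ext g
    constructor
    · rintro ⟨m, rfl⟩; exact ⟨nmSwap m, rfl⟩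
    · rintro ⟨m, rfl⟩; exact ⟨nmSwap m, rfl⟩
  refine ⟨?_, ?_⟩
  · intro m m' hmm
    have := h.inj hmm
    have h2 := congrArg nmSwap this
    simpa [nmSwap_nmSwap] using h2
  · intro m hm g hg
    rw [hr] at hg ⊢
    refine h.ti (nmSwap m) ?_ g hg
    intro h1
    apply hm
    have h2 := congrArg nmSwap h1
    rw [map_pow, nmSwap_nmSwap, map_one] at h2
    exact h2

/-- The class function `3·1_{E^G}` where `E = φ {m | m.2 ^ 2 ≠ 1}` (`= C_G(t₂) ∖ H₁`) and `E^G`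
is the union of the conjugates of `E`. -/
noncomputable def cfC {G : Type*} [Group G] (φ : NM →* G) : G → ℂ :=
  fun g => @ite ℂ (∃ x : G, ∃ m : NM, m.2 ^ 2 ≠ 1 ∧ x * g * x⁻¹ = φ m)
    (Classical.propDecidable _) 3 0

theorem cfC_pos {G : Type*} [Group G] {φ : NM →* G} {g : G}
    (hg : ∃ x : G, ∃ m : NM, m.2 ^ 2 ≠ 1 ∧ x * g * x⁻¹ = φ m) : cfC φ g = 3 := by
  unfold cfC
  rw [if_pos hg]

theorem cfC_neg {G : Type*} [Group G] {φ : NM →* G} {g : G}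
    (hg : ¬ ∃ x : G, ∃ m : NM, m.2 ^ 2 ≠ 1 ∧ x * g * x⁻¹ = φ m) : cfC φ g = 0 := by
  unfold cfC
  rw [if_neg hg]

theorem cfC_eq_three_or_zero {G : Type*} [Group G] (φ : NM →* G) (g : G) :
    cfC φ g = 3 ∨ cfC φ g = 0 := by
  by_cases hg : ∃ x : G, ∃ m : NM, m.2 ^ 2 ≠ 1 ∧ x * g * x⁻¹ = φ m
  · exact Or.inl (cfC_pos hg)
  · exact Or.inr (cfC_neg hg)

theorem cfC_isClassFunction {G : Type*} [Group G] (φ : NM →* G) :
    Cfsg.IsClassFunction G (cfC φ) := by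
  intro g h
  have : (∃ x : G, ∃ m : NM, m.2 ^ 2 ≠ 1 ∧ x * (h * g * h⁻¹) * x⁻¹ = φ m) ↔
      (∃ x : G, ∃ m : NM, m.2 ^ 2 ≠ 1 ∧ x * g * x⁻¹ = φ m) := by
    constructor
    · rintro ⟨x, m, hm, hx⟩
      refine ⟨x * h, m, hm, ?_⟩
      rw [← hx]; group
    · rintro ⟨x, m, hm, hx⟩
      refine ⟨x * h⁻¹, m, hm, ?_⟩
      rw [← hx]; group
  by_cases hg : ∃ x : G, ∃ m : NM, m.2 ^ 2 ≠ 1 ∧ x * g * x⁻¹ = φ m
  · rw [cfC_pos hg, cfC_pos (this.mpr hg)]
  · rw [cfC_neg hg, cfC_neg (fun h' => hg (this.mp h'))]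

theorem nm_sq_ne_one_of_snd {m : NM} (hm : m.2 ^ 2 ≠ 1) : m ^ 2 ≠ 1 := by
  intro h
  apply hm
  have := congrArg Prod.snd h
  simpa using this

/-- `cfC` vanishes at elements of order at most 2. -/
theorem S3Cfg.cfC_eq_zero_of_sq {G : Type*} [Group G] {φ : NM →* G} (h : S3Cfg φ) {g : G}
    (hg : g ^ 2 = 1) : cfC φ g = 0 := by
  apply cfC_neg
  rintro ⟨x, m, hm, hx⟩
  apply nm_sq_ne_one_of_snd hm
  apply h.inj
  rw [map_pow, map_one, ← hx, conj_pow, hg]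
  group

/-- Values of `cfC` on `φ.range`. -/
theorem S3Cfg.cfC_apply {G : Type*} [Group G] {φ : NM →* G} (h : S3Cfg φ) (m : NM) :
    cfC φ (φ m) = if m.2 ^ 2 ≠ 1 then 3 else 0 := by
  by_cases hm : m.2 ^ 2 ≠ 1
  · rw [if_pos hm]
    exact cfC_pos ⟨1, m, hm, by simp⟩
  · rw [if_neg hm]
    apply cfC_neg
    rintro ⟨x, m', hm', hx⟩
    have hm'2 := nm_sq_ne_one_of_snd hm'
    have hm2 : m ^ 2 ≠ 1 := by
      intro h1
      apply hm'2
      apply h.inj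
      rw [map_pow, map_one, ← hx, conj_pow, ← map_pow, h1, map_one]
      group
    obtain ⟨k, rfl⟩ := h.ti m hm2 x (by rw [hx]; exact ⟨m', rfl⟩)
    have h3 : k * m * k⁻¹ = m' := by
      apply h.inj
      rw [← hx]; simp
    apply hm'
    rw [← h3]
    have h4 : (k * m * k⁻¹).2 ^ 2 = k.2 * m.2 ^ 2 * k.2⁻¹ := by
      show (k.2 * m.2 * k.2⁻¹) ^ 2 = _
      rw [conj_pow]
    rw [h4]
    rw [not_not] at hm
    rw [hm]; group

/-- Two elements of order at most 2 whose product is a `φ m` of order 3 or 6 lie in `φ.range`. -/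
theorem S3Cfg.mem_range_of_mul {G : Type*} [Group G] {φ : NM →* G} (h : S3Cfg φ) {u v : G}
    (hu : u ^ 2 = 1) (hv : v ^ 2 = 1) {m : NM} (hm : m ^ 2 ≠ 1) (huv : u * v = φ m) :
    u ∈ φ.range ∧ v ∈ φ.range := by
  have hu' : u⁻¹ = u := by
    rw [inv_eq_iff_mul_eq_one, ← sq, hu]
  have hv' : v⁻¹ = v := by
    rw [inv_eq_iff_mul_eq_one, ← sq, hv]
  have h1 : u * φ m * u⁻¹ = φ m⁻¹ := by
    rw [map_inv, ← huv, mul_inv_rev, hu', hv']
    have : u * u = 1 := by rw [← sq, hu]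
    rw [← mul_assoc u u v, this, one_mul]
  have hu_mem : u ∈ φ.range := h.ti m hm u (by rw [h1]; exact ⟨m⁻¹, rfl⟩)
  refine ⟨hu_mem, ?_⟩
  have : v = u⁻¹ * φ m := by rw [← huv]; group
  rw [this]
  exact φ.range.mul_mem (φ.range.inv_mem hu_mem) ⟨m, rfl⟩

/-- The centralizer of an element `φ m` of order 3 or 6 lies in `φ.range`. -/
theorem S3Cfg.mem_range_of_commute {G : Type*} [Group G] {φ : NM →* G} (h : S3Cfg φ) {m : NM}
    (hm : m ^ 2 ≠ 1) {g : G} (hg : g * φ m = φ m * g) : g ∈ φ.range := by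
  apply h.ti m hm g
  rw [hg]
  exact ⟨m, by simp⟩

/-- Generators and relations for `N = N_G(T) ≅ S₃ × S₃` (output of the setup piece SU1). -/
structure S3Gens {G : Type*} [Group G] (T N : Subgroup G) (t₁ t₂ a b : G) : Prop where
  t₁3 : t₁ ^ 3 = 1
  t₂3 : t₂ ^ 3 = 1
  a2 : a ^ 2 = 1
  b2 : b ^ 2 = 1
  tt : t₁ * t₂ = t₂ * t₁
  ab : a * b = b * a
  at₁ : a * t₁ * a⁻¹ = t₁⁻¹
  at₂ : a * t₂ = t₂ * a
  bt₁ : b * t₁ = t₁ * b
  bt₂ : b * t₂ * b⁻¹ = t₂⁻¹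
  memT : ∀ x : G, x ∈ T ↔ ∃ i j : ℕ, x = t₁ ^ i * t₂ ^ j
  memN : ∀ x : G, x ∈ N ↔ ∃ i j k l : ℕ, x = t₁ ^ i * t₂ ^ j * a ^ k * b ^ l

end Cfsg.Agent.Helper16
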