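import Cfsg.Agent.Helper16.Zeros
import Cfsg.Agent.Helper16.BK
import Cfsg.Agent.Helper75.CommTrace
import Cfsg.Agent.Helper77.Defect
import Cfsg.Agent.Helper81.BlockDefect

/-!
# Characters of height zero on the defect classes

* `irr_mul_sub_memLocalIdeal`: `χ (x * y) ≡ χ y` modulo the local ideal, for a `p`-element `x`
  commuting with `y`.
* `centralChar_memLocalIdeal_of_le`, `memLocalIdeal_of_centralChar_of_le`: comparison of `ω_χ(g)`
  and `χ(g)` modulo the local ideal, in terms of the `p`-parts of the class size and the degree.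
* `height_zero_not_memLocalIdeal`: a character of height zero is a local unit on `x * y`, for `y`
  in a defect class and `x` a `p`-element centralizing `y`.
* `centralChar_not_memLocalIdeal_of_center`: the central characters of the block are local units
  on `x * y`, for `x` in the centre of a Sylow `p`-subgroup of `C(y)`.
-/

set_option autoImplicit false
open Cfsg
open scoped ComplexConjugate

namespace Cfsg.Agent.Helper16

universe u

variable {G : Type u} [Group G] [Finite G]

/-- `χ (x * y) ≡ χ y` modulo the local ideal when `x` is a `p`-element commuting with `y`. -/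
theorem irr_mul_sub_memLocalIdeal {p : ℕ} {M : Ideal Cfsg.AlgInt} (hM : Cfsg.IsPModular p M)
    (χ : Cfsg.IrrCharacter G) {x y : G} (hx : ∃ k : ℕ, orderOf x = p ^ k) (hxy : Commute x y) :
    Cfsg.MemLocalIdeal M ((χ : G → ℂ) (x * y) - (χ : G → ℂ) y) := by
  obtain ⟨k, hk⟩ := hx
  obtain ⟨n, ρ, -, hχ⟩ := χ.2
  have hp := hM.1
  have hne : p ^ k ≠ 0 := pow_ne_zero k hp.ne_zero
  obtain ⟨ω, hω, hdiff⟩ := Helper75.rep_character_mul_sub ρ (p ^ k) hne x y
    (by rw [← hk]; exact pow_orderOf_eq_one x) hxy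
  rw [hχ] at hdiff
  rw [hdiff]
  have hroot : Complex.exp (2 * Real.pi * Complex.I / ((p ^ k : ℕ) : ℂ)) ^ p ^ k = 1 := by
    have h := Complex.isPrimitiveRoot_exp (p ^ k) hne
    exact h.pow_eq_one
  have h1 := Helper77.memLocalIdeal_root_sub_one hM hroot
  have h2 : Cfsg.MemLocalIdeal M (1 - Complex.exp (2 * Real.pi * Complex.I / ((p ^ k : ℕ) : ℂ))) := by
    have := Helper77.memLocalIdeal_neg h1
    rwa [neg_sub] at this
  exact Helper77.memLocalIdeal_mul' hM.2.1 h2 (Helper77.memLocalRing_of_isIntegral hM.2.1 hω)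

/-- The `p`-adic valuation of the index of a subgroup. -/
theorem factorization_index_add (p : ℕ) (H : Subgroup G) :
    H.index.factorization p + (Nat.card H).factorization p = (Nat.card G).factorization p := by
  have h := H.index_mul_card
  have h1 : H.index ≠ 0 := Subgroup.index_ne_zero_of_finite
  have h2 : Nat.card H ≠ 0 := Nat.card_pos.ne'
  rw [← h, Nat.factorization_mul h1 h2]
  rfl

/-- If the `p`-part of the degree of `χ` is at most the `p`-part of the class size of `g` and
`χ g` is in the local ideal, then so is `ω_χ(g)`. -/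
theorem centralChar_memLocalIdeal_of_le {p : ℕ} {M : Ideal Cfsg.AlgInt}
    (hM : Cfsg.IsPModular p M) (χ : Cfsg.IrrCharacter G) (g : G)
    (hle : (Cfsg.charDegree (χ : G → ℂ)).factorization p
      ≤ ((Subgroup.centralizer ({g} : Set G)).index).factorization p)
    (h : Cfsg.MemLocalIdeal M ((χ : G → ℂ) g)) :
    Cfsg.MemLocalIdeal M (Cfsg.centralChar (χ : G → ℂ) g) := by
  have hp := hM.1
  have hn : 0 < Cfsg.charDegree (χ : G → ℂ) := Helper81.charDegree_pos χ
  have hidx : (Subgroup.centralizer ({g} : Set G)).index ≠ 0 := Subgroup.index_ne_zero_of_finite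
  obtain ⟨m, k₂, hk₂, hnk⟩ := Nat.exists_eq_pow_mul_and_not_dvd hn.ne' p hp.ne_one
  have hm : (Cfsg.charDegree (χ : G → ℂ)).factorization p = m := by
    rw [hnk, Nat.factorization_mul (pow_ne_zero m hp.ne_zero)
      (fun h0 => hk₂ (by rw [h0]; exact dvd_zero p))]
    simp [hp.factorization_self, Nat.factorization_eq_zero_of_not_dvd hk₂]
  rw [hm] at hle
  obtain ⟨c, hc⟩ : p ^ m ∣ (Subgroup.centralizer ({g} : Set G)).index :=
    (hp.pow_dvd_iff_le_factorization hidx).mpr hle
  have hpm : ((p : ℂ) ^ m) ≠ 0 := pow_ne_zero m (by exact_mod_cast hp.ne_zero)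
  have hk₂0 : (k₂ : ℂ) ≠ 0 := by
    intro h0
    have : k₂ = 0 := by exact_mod_cast h0
    exact hk₂ (this ▸ dvd_zero p)
  have heq : Cfsg.centralChar (χ : G → ℂ) g = (c : ℂ) * (χ : G → ℂ) g * (k₂ : ℂ)⁻¹ := by
    unfold Cfsg.centralChar
    rw [Helper81.irr_one_eq_charDegree, hnk, hc]
    push_cast
    field_simp
  rw [heq]
  have hnat : ∀ j : ℕ, Cfsg.MemLocalRing M (j : ℂ) := fun j =>
    Helper77.memLocalRing_of_isIntegral hM.2.1 (by
      have := isIntegral_algebraMap (R := ℤ) (A := ℂ) (x := (j : ℤ))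
      simpa using this)
  exact Helper77.memLocalIdeal_mul' hM.2.1
    (Helper77.memLocalIdeal_mul hM.2.1 (hnat c) h)
    (Helper77.memLocalRing_natCast_inv hM hk₂)

/-- If the `p`-part of the class size of `g` is at most the `p`-part of the degree of `χ` and
`ω_χ(g)` is in the local ideal, then so is `χ g`. -/
theorem memLocalIdeal_of_centralChar_of_le {p : ℕ} {M : Ideal Cfsg.AlgInt}
    (hM : Cfsg.IsPModular p M) (χ : Cfsg.IrrCharacter G) (g : G)
    (hle : ((Subgroup.centralizer ({g} : Set G)).index).factorization p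
      ≤ (Cfsg.charDegree (χ : G → ℂ)).factorization p)
    (h : Cfsg.MemLocalIdeal M (Cfsg.centralChar (χ : G → ℂ) g)) :
    Cfsg.MemLocalIdeal M ((χ : G → ℂ) g) := by
  have hp := hM.1
  have hn : 0 < Cfsg.charDegree (χ : G → ℂ) := Helper81.charDegree_pos χ
  have hidx : (Subgroup.centralizer ({g} : Set G)).index ≠ 0 := Subgroup.index_ne_zero_of_finite
  obtain ⟨m, k₁, hk₁, hik⟩ := Nat.exists_eq_pow_mul_and_not_dvd hidx p hp.ne_one
  have hm : ((Subgroup.centralizer ({g} : Set G)).index).factorization p = m := by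
    rw [hik, Nat.factorization_mul (pow_ne_zero m hp.ne_zero)
      (fun h0 => hk₁ (by rw [h0]; exact dvd_zero p))]
    simp [hp.factorization_self, Nat.factorization_eq_zero_of_not_dvd hk₁]
  rw [hm] at hle
  obtain ⟨c, hc⟩ : p ^ m ∣ Cfsg.charDegree (χ : G → ℂ) :=
    (hp.pow_dvd_iff_le_factorization hn.ne').mpr hle
  have hpm : ((p : ℂ) ^ m) ≠ 0 := pow_ne_zero m (by exact_mod_cast hp.ne_zero)
  have hc0 : (c : ℂ) ≠ 0 := by
    intro h0
    have h1 : c = 0 := by exact_mod_cast h0
    rw [h1, mul_zero] at hc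
    exact hn.ne' hc
  have heq : (k₁ : ℂ) * (χ : G → ℂ) g = (c : ℂ) * Cfsg.centralChar (χ : G → ℂ) g := by
    unfold Cfsg.centralChar
    rw [Helper81.irr_one_eq_charDegree, hc, hik]
    push_cast
    field_simp
  have hnat : ∀ j : ℕ, Cfsg.MemLocalRing M (j : ℂ) := fun j =>
    Helper77.memLocalRing_of_isIntegral hM.2.1 (by
      have := isIntegral_algebraMap (R := ℤ) (A := ℂ) (x := (j : ℤ))
      simpa using this)
  have h1 : Cfsg.MemLocalIdeal M ((k₁ : ℂ) * (χ : G → ℂ) g) := by
    rw [heq]
    exact Helper77.memLocalIdeal_mul hM.2.1 (hnat c) h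
  rcases memLocalIdeal_or_of_mul hM.2.1 (hnat k₁) h1 with h2 | h2
  · exact absurd h2 (Helper77.not_memLocalIdeal_natCast hM hk₁)
  · exact h2

/-- A block contains a character of height zero. -/
theorem exists_height_zero {p : ℕ} {M : Ideal Cfsg.AlgInt} (hM : M.IsMaximal)
    {B : Set (Cfsg.IrrCharacter G)} (hB : Cfsg.IsPBlock M B) :
    ∃ χ ∈ B, Cfsg.blockHeight p B (χ : G → ℂ) = 0 := by
  have := Fintype.ofFinite G
  obtain ⟨χ₀, hχ₀⟩ := Helper77.block_nonempty hM hB
  have hne : ((fun χ : Cfsg.IrrCharacter G =>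
      (Cfsg.charDegree (χ : G → ℂ)).factorization p) '' B).Nonempty := ⟨_, χ₀, hχ₀, rfl⟩
  obtain ⟨χ, hχ, hχe⟩ := Nat.sInf_mem hne
  refine ⟨χ, hχ, ?_⟩
  unfold Cfsg.blockHeight
  simp only at hχe
  rw [hχe, Nat.sub_self]

/-- For a character of height zero in `B`, the `p`-part of the degree is `p ^ (a - d)`. -/
theorem factorization_charDegree_add_blockDefect {p : ℕ} {B : Set (Cfsg.IrrCharacter G)}
    {χ : Cfsg.IrrCharacter G} (hχ : χ ∈ B) (h0 : Cfsg.blockHeight p B (χ : G → ℂ) = 0) :
    (Cfsg.charDegree (χ : G → ℂ)).factorization p + Cfsg.blockDefect p B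
      = (Nat.card G).factorization p := by
  have h1 : sInf ((fun χ : Cfsg.IrrCharacter G =>
      (Cfsg.charDegree (χ : G → ℂ)).factorization p) '' B)
      ≤ (Cfsg.charDegree (χ : G → ℂ)).factorization p := Nat.sInf_le ⟨χ, hχ, rfl⟩
  have h2 : (Cfsg.charDegree (χ : G → ℂ)).factorization p ≤ (Nat.card G).factorization p := by
    have hd := Helper81.charDegree_dvd_card χ
    exact (Nat.factorization_le_iff_dvd (Helper81.charDegree_pos χ).ne' Nat.card_pos.ne').mpr hd p
  unfold Cfsg.blockHeight at h0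
  unfold Cfsg.blockDefect
  omega

/-- The `p`-part of the centralizer of a defect class is `p ^ d`. -/
theorem factorization_centralizer_of_isDefectClass {p : ℕ} [Fact p.Prime] {M : Ideal Cfsg.AlgInt}
    (hM : Cfsg.IsPModular p M) {B : Set (Cfsg.IrrCharacter G)} (hB : Cfsg.IsPBlock M B) {y : G}
    (hy : Cfsg.IsDefectClass M B y) :
    (Nat.card (Subgroup.centralizer ({y} : Set G))).factorization p = Cfsg.blockDefect p B := by
  have := Fintype.ofFinite G
  obtain ⟨χ₀, hχ₀⟩ := Helper77.block_nonempty hM.2.1 hB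
  exact le_antisymm (Helper77.factorization_centralizer_le_blockDefect hM hB hy.2.1)
    (Helper77.blockDefect_le_factorization_centralizer hM hB ⟨χ₀, hχ₀, hy.2.2 χ₀ hχ₀⟩)

/-- A character of height zero is a local unit on `x * y`, for `y` in a defect class and `x` a
`p`-element commuting with `y`. -/
theorem height_zero_not_memLocalIdeal {p : ℕ} [Fact p.Prime] {M : Ideal Cfsg.AlgInt}
    (hM : Cfsg.IsPModular p M) {B : Set (Cfsg.IrrCharacter G)} (hB : Cfsg.IsPBlock M B) {y : G}
    (hy : Cfsg.IsDefectClass M B y) {x : G} (hx : ∃ k : ℕ, orderOf x = p ^ k)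
    (hxy : Commute x y) {χ : Cfsg.IrrCharacter G} (hχ : χ ∈ B)
    (h0 : Cfsg.blockHeight p B (χ : G → ℂ) = 0) :
    ¬ Cfsg.MemLocalIdeal M ((χ : G → ℂ) (x * y)) := by
  intro hmem
  have h1 := factorization_charDegree_add_blockDefect hχ h0
  have h2 := factorization_centralizer_of_isDefectClass hM hB hy
  have h3 := factorization_index_add p (Subgroup.centralizer ({y} : Set G))
  have h4 : Cfsg.MemLocalIdeal M ((χ : G → ℂ) y) := by
    have h5 := Helper77.memLocalIdeal_sub hM.2.1 hmem (irr_mul_sub_memLocalIdeal hM χ hx hxy)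
    rwa [sub_sub_cancel] at h5
  exact hy.2.2 χ hχ (centralChar_memLocalIdeal_of_le hM χ y (by omega) h4)

/-- The central characters of the block are local units on `x * y`, for `y` in a defect class and
`x` a `p`-element commuting with `y`, when a subgroup of order `p ^ d` centralizes `x` and `y`. -/
theorem centralChar_not_memLocalIdeal_of_center {p : ℕ} [Fact p.Prime] {M : Ideal Cfsg.AlgInt}
    (hM : Cfsg.IsPModular p M) {B : Set (Cfsg.IrrCharacter G)} (hB : Cfsg.IsPBlock M B) {y : G}
    (hy : Cfsg.IsDefectClass M B y) {x : G} (hx : ∃ k : ℕ, orderOf x = p ^ k)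
    (hxy : Commute x y) (Q : Subgroup G) (hQ : Nat.card Q = p ^ Cfsg.blockDefect p B)
    (hQx : ∀ w ∈ Q, w * x = x * w) (hQy : ∀ w ∈ Q, w * y = y * w)
    {χ : Cfsg.IrrCharacter G} (hχ : χ ∈ B) :
    ¬ Cfsg.MemLocalIdeal M (Cfsg.centralChar (χ : G → ℂ) (x * y)) := by
  have := Fintype.ofFinite G
  have hp := hM.1
  obtain ⟨χ₀, hχ₀, h0⟩ := exists_height_zero (p := p) hM.2.1 hB
  refine not_memLocalIdeal_centralChar_of_mem hM.2.1 hB ⟨χ₀, hχ₀, ?_⟩ hχ
  intro hmem
  have h1 := factorization_charDegree_add_blockDefect hχ₀ h0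
  have h2 := factorization_centralizer_of_isDefectClass hM hB hy
  have h3 := factorization_index_add p (Subgroup.centralizer ({x * y} : Set G))
  -- `y` is `p`-regular
  have hyreg : ¬ p ∣ orderOf y := by
    intro hdvd
    apply hy.2.1
    rw [Helper77.blockCoeff_eq_zero_of_dvd_orderOf hM hB hdvd]
    exact Helper77.memLocalIdeal_zero hM.2.1
  obtain ⟨i, hi⟩ := isPPart_eq_pow (isPPart_mul hxy hx hyreg)
  -- `C(xy) ≤ C(y)`
  have hle : Subgroup.centralizer ({x * y} : Set G) ≤ Subgroup.centralizer ({y} : Set G) := by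
    intro c hc
    rw [Subgroup.mem_centralizer_singleton_iff] at hc ⊢
    have hc1 : Commute c (x * y) := hc
    have hc2 : Commute c x := by
      rw [← hi]; exact hc1.pow_right i
    have hc3 : Commute c y := by
      have : y = x⁻¹ * (x * y) := by group
      rw [this]
      exact hc2.inv_right.mul_right hc1
    exact hc3.eq
  have hQle : Q ≤ Subgroup.centralizer ({x * y} : Set G) := by
    intro w hw
    rw [Subgroup.mem_centralizer_singleton_iff]
    calc w * (x * y) = (w * x) * y := by rw [mul_assoc]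
      _ = x * (w * y) := by rw [hQx w hw, mul_assoc]
      _ = x * y * w := by rw [hQy w hw, mul_assoc]
  have hd1 : Nat.card (Subgroup.centralizer ({x * y} : Set G))
      ∣ Nat.card (Subgroup.centralizer ({y} : Set G)) := Subgroup.card_dvd_of_le hle
  have hd2 : Nat.card Q ∣ Nat.card (Subgroup.centralizer ({x * y} : Set G)) :=
    Subgroup.card_dvd_of_le hQle
  have h5 : (Nat.card (Subgroup.centralizer ({x * y} : Set G))).factorization p
      ≤ (Nat.card (Subgroup.centralizer ({y} : Set G))).factorization p :=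
    (Nat.factorization_le_iff_dvd Nat.card_pos.ne' Nat.card_pos.ne').mpr hd1 p
  have h6 : Cfsg.blockDefect p B
      ≤ (Nat.card (Subgroup.centralizer ({x * y} : Set G))).factorization p := by
    rw [hQ] at hd2
    exact (hp.pow_dvd_iff_le_factorization Nat.card_pos.ne').mp hd2
  exact height_zero_not_memLocalIdeal hM hB hy hx hxy hχ₀ h0
    (memLocalIdeal_of_centralChar_of_le hM χ₀ (x * y) (by omega) hmem)

end Cfsg.Agent.Helper16
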