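import Cfsg.Agent.Helper16.FMT
import Cfsg.Agent.Helper16.HeightZero

/-!
# Classes on which the central character of a block does not vanish

* `isPPart_subgroup`, `isPPart_coe`: the `p`-part in a subgroup.
* `inducedCentralChar_eq_omega_res`: the induced central character as `Ω_ξ` of a restricted
  class indicator.
* `exists_conj_centralizer_pPart_mem`: if `ω_B(g) ≠ 0` and `P` is a defect group of `B`, then a
  conjugate `x` of `g` centralizes `P` and has its `p`-part in `Z(P)`.
* `exists_conj_center_of_induced`: if `b` (defect group `D`) induces `B` (defect group `P`), then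
  every element of `Z(P)` is conjugate to an element of `Z(D)`.
-/

set_option autoImplicit false
open Cfsg
open scoped ComplexConjugate

namespace Cfsg.Agent.Helper16

universe u

variable {G : Type u} [Group G]

/-- The `p`-part of an element of a subgroup lies in the subgroup, and is its `p`-part there. -/
theorem isPPart_subgroup {p : ℕ} [Fact p.Prime] (H : Subgroup G) {h : H} {z : G}
    (hz : Cfsg.IsPPart p (h : G) z) : ∃ z' : H, (z' : G) = z ∧ Cfsg.IsPPart p h z' := by
  obtain ⟨i, hi⟩ := isPPart_eq_pow hz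
  obtain ⟨y, hzy, hcomm, ⟨k, hk⟩, hy⟩ := hz
  have hz' : ((h ^ i : H) : G) = z := by rw [Subgroup.coe_pow, hi]
  have hy' : (((h ^ i)⁻¹ * h : H) : G) = y := by
    rw [Subgroup.coe_mul, Subgroup.coe_inv, hz', ← hzy]; group
  refine ⟨h ^ i, hz', (h ^ i)⁻¹ * h, by group, ?_, ⟨k, ?_⟩, ?_⟩
  · exact ((Commute.refl (h ^ i)).inv_right).mul_right ((Commute.refl h).pow_left i)
  · rw [← Subgroup.orderOf_coe, hz', hk]
  · rw [← Subgroup.orderOf_coe, hy']
    exact hy

/-- The `p`-part in a subgroup is the `p`-part in the group. -/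
theorem isPPart_coe {p : ℕ} (H : Subgroup G) {h z : H} (hz : Cfsg.IsPPart p h z) :
    Cfsg.IsPPart p (h : G) (z : G) := by
  obtain ⟨y, hzy, hcomm, ⟨k, hk⟩, hy⟩ := hz
  refine ⟨(y : G), by rw [← hzy]; rfl, ?_, ⟨k, ?_⟩, ?_⟩
  · have := congrArg Subtype.val hcomm.eq
    exact this
  · rw [Subgroup.orderOf_coe, hk]
  · rw [Subgroup.orderOf_coe]; exact hy

variable [Fintype G]

/-- The induced central character as `Ω_ξ` of a restricted class indicator. -/
theorem inducedCentralChar_eq_omega_res (H : Subgroup G) [Fintype H] (ξ : H → ℂ) (g : G) :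
    Cfsg.inducedCentralChar H ξ g
      = Helper81.omega ξ (fun h : H => Helper81.classInd g (h : G)) := by
  classical
  unfold Cfsg.inducedCentralChar
  rw [finsum_mem_eq_finite_toFinset_sum _ (Set.toFinite _), Helper81.omega, Finset.sum_div]
  simp only [Helper81.classInd, ite_mul, one_mul, zero_mul]
  have h3 : ∀ h : H, (if IsConj g (h : G) then ξ h else 0) / ξ 1
      = if IsConj g (h : G) then ξ h / ξ 1 else 0 := by
    intro h; split_ifs <;> simp
  rw [Finset.sum_congr rfl (fun h _ => h3 h), ← Finset.sum_filter]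
  apply Finset.sum_congr _ (fun _ _ => rfl)
  ext h
  simp

/-- If the induced central character of `ξ` at `g` is a local unit, some element of `H`
conjugate to `g` has its central character a local unit. -/
theorem exists_centralChar_not_memLocalIdeal_of_induced {M : Ideal Cfsg.AlgInt}
    (hM : M.IsMaximal) (H : Subgroup G) [Fintype H] (ξ : Cfsg.IrrCharacter H) {g : G}
    (h : ¬ Cfsg.MemLocalIdeal M (Cfsg.inducedCentralChar H (ξ : H → ℂ) g)) :
    ∃ h' : H, IsConj g (h' : G) ∧ ¬ Cfsg.MemLocalIdeal M (Cfsg.centralChar (ξ : H → ℂ) h') := by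
  classical
  rw [inducedCentralChar_eq_omega_res, Helper77.omega_eq_sum_conjClasses ξ
    (isClassFunction_res (Helper81.classInd_isClassFunction g) H)] at h
  by_contra hcon
  push Not at hcon
  apply h
  apply Helper77.memLocalIdeal_sum hM
  intro c _
  by_cases hc : IsConj g ((Quotient.out c : H) : G)
  · simp only [Helper81.classInd]
    rw [if_pos hc, one_mul]
    exact hcon _ hc
  · simp only [Helper81.classInd]
    rw [if_neg hc, zero_mul]
    exact Helper77.memLocalIdeal_zero hM

/-- If the central character of the block `B` at `g` is a local unit and `P` is a defect group of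
`B`, then some conjugate `x` of `g` centralizes `P` and has its `p`-part in `P`. -/
theorem exists_conj_centralizer_pPart_mem {p : ℕ} [Fact p.Prime] {M : Ideal Cfsg.AlgInt}
    (hM : Cfsg.IsPModular p M) {B : Set (Cfsg.IrrCharacter G)} (hB : Cfsg.IsPBlock M B)
    {P : Subgroup G} (hP : Cfsg.IsDefectGroup p M B P) {g : G}
    (hg : ∃ χ ∈ B, ¬ Cfsg.MemLocalIdeal M (Cfsg.centralChar (χ : G → ℂ) g)) :
    ∃ x : G, IsConj g x ∧ x ∈ Subgroup.centralizer (P : Set G) ∧
      ∀ z : G, Cfsg.IsPPart p x z → z ∈ P ∧ ∀ w ∈ P, z * w = w * z := by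
  classical
  have hMm := hM.2.1
  obtain ⟨-, -, -, -, hPp⟩ := isDefectGroup_exists_data hP
  obtain ⟨b, hb, hPb, hind⟩ := fmt_exists hM P hB hP
  obtain ⟨ξ, hξ⟩ := exists_mem_of_isPBlock hMm hb
  obtain ⟨χ, hχ, hχg⟩ := hg
  have h1 := hind.2.2 ξ hξ χ hχ g
  have h2 := inducedCentralChar_sub_brauerCentralChar_memLocalIdeal hM P
    (Subgroup.normalizer (P : Set G)) hPp Subgroup.le_normalizer le_rfl ξ g
  have h3 : ¬ Cfsg.MemLocalIdeal M (Cfsg.brauerCentralChar P (Subgroup.normalizer (P : Set G))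
      (ξ : Subgroup.normalizer (P : Set G) → ℂ) g) := by
    intro h
    apply hχg
    have h4 := Helper77.memLocalIdeal_sub hMm (Helper77.memLocalIdeal_add hMm h h2) h1
    have e : Cfsg.brauerCentralChar P (Subgroup.normalizer (P : Set G))
          (ξ : Subgroup.normalizer (P : Set G) → ℂ) g
        + (Cfsg.inducedCentralChar (Subgroup.normalizer (P : Set G))
            (ξ : Subgroup.normalizer (P : Set G) → ℂ) g
          - Cfsg.brauerCentralChar P (Subgroup.normalizer (P : Set G))
            (ξ : Subgroup.normalizer (P : Set G) → ℂ) g)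
        - (Cfsg.inducedCentralChar (Subgroup.normalizer (P : Set G))
            (ξ : Subgroup.normalizer (P : Set G) → ℂ) g - Cfsg.centralChar (χ : G → ℂ) g)
        = Cfsg.centralChar (χ : G → ℂ) g := by ring
    rwa [e] at h4
  have h4 : ∃ h : Subgroup.normalizer (P : Set G), IsConj g (h : G) ∧
      (h : G) ∈ Subgroup.centralizer (P : Set G) ∧
      (ξ : Subgroup.normalizer (P : Set G) → ℂ) h ≠ 0 := by
    by_contra hcon
    push Not at hcon
    apply h3
    unfold Cfsg.brauerCentralChar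
    rw [finsum_mem_eq_zero_of_forall_eq_zero]
    · exact Helper77.memLocalIdeal_zero hMm
    · intro h hh
      rw [hcon h hh.1 hh.2, zero_div]
  obtain ⟨h, hgh, hhC, hξh⟩ := h4
  refine ⟨h, hgh, hhC, fun z hz => ?_⟩
  obtain ⟨i, hi⟩ := isPPart_eq_pow hz
  have hcomm : ∀ w ∈ P, z * w = w * z := by
    intro w hw
    have h5 : w * (h : G) = (h : G) * w := Subgroup.mem_centralizer_iff.mp hhC w hw
    have h6 : Commute w (h : G) := h5
    rw [← hi]
    exact ((h6.pow_right i).eq).symm
  refine ⟨?_, hcomm⟩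
  obtain ⟨z', hz'e, hz'⟩ := isPPart_subgroup (Subgroup.normalizer (P : Set G)) hz
  have hbeq := eq_blockOf_of_mem hMm hb hξ
  by_contra hzP
  apply hξh
  apply irr_eq_zero_of_pPart_not_mem_defectGroup hM ξ hz'
  intro D' hD' hzD'
  rw [← hbeq] at hD'
  obtain ⟨c, hc⟩ := isDefectGroup_conjLE hM hb hD' hPb
  have h7 := hc z' hzD'
  rw [Subgroup.mem_subgroupOf] at h7
  have h8 : (c : G) * z * (c : G)⁻¹ ∈ P := by
    rw [← hz'e]
    exact h7
  exact hzP ((Subgroup.mem_normalizer_iff.mp c.2 z).mpr h8)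

/-- If the block `b` of `H` with defect group `D` induces the block `B` with defect group `P`,
then every element of the centre of `P` is conjugate to an element of the centre of `D`. -/
theorem exists_conj_center_of_induced {p : ℕ} [Fact p.Prime] {M : Ideal Cfsg.AlgInt}
    (hM : Cfsg.IsPModular p M) (H : Subgroup G) {b : Set (Cfsg.IrrCharacter H)}
    {B : Set (Cfsg.IrrCharacter G)} (hind : Cfsg.IsInducedBlock M H b B) {D : Subgroup H}
    (hD : Cfsg.IsDefectGroup p M b D) {P : Subgroup G} (hP : Cfsg.IsDefectGroup p M B P) {x : G}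
    (hx : x ∈ P) (hxc : ∀ w ∈ P, x * w = w * x) :
    ∃ g : G, g * x * g⁻¹ ∈ D.map H.subtype ∧
      ∀ w ∈ D.map H.subtype, (g * x * g⁻¹) * w = w * (g * x * g⁻¹) := by
  classical
  have hMm := hM.2.1
  have hb := hind.1
  have hB := hind.2.1
  have hPcard := Helper77.card_of_isDefectGroup hM hB hP
  obtain ⟨y, hy, S, rfl⟩ := hP
  obtain ⟨x', hx', rfl⟩ := hx
  have hxord : ∃ k : ℕ, orderOf (x' : G) = p ^ k := by
    obtain ⟨k, hk⟩ := (IsPGroup.iff_orderOf.mp S.isPGroup') ⟨x', hx'⟩
    refine ⟨k, ?_⟩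
    rw [← hk, ← Subgroup.orderOf_coe, ← Subgroup.orderOf_coe]
  have hxy : Commute (x' : G) y := Subgroup.mem_centralizer_singleton_iff.mp x'.2
  have hyreg : ¬ p ∣ orderOf y := by
    intro hdvd
    apply hy.2.1
    rw [Helper77.blockCoeff_eq_zero_of_dvd_orderOf hM hB hdvd]
    exact Helper77.memLocalIdeal_zero hMm
  obtain ⟨ξ, hξ⟩ := exists_mem_of_isPBlock hMm hb
  obtain ⟨χ, hχ⟩ := exists_mem_of_isPBlock hMm hB
  have h1 := centralChar_not_memLocalIdeal_of_center hM hB hy hxord hxy _ hPcard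
    (fun w hw => (hxc w hw).symm) (by
      rintro w ⟨w', hw', rfl⟩
      exact Subgroup.mem_centralizer_singleton_iff.mp w'.2) hχ
  have h2 := hind.2.2 ξ hξ χ hχ ((x' : G) * y)
  have h3 : ¬ Cfsg.MemLocalIdeal M (Cfsg.inducedCentralChar H (ξ : H → ℂ) ((x' : G) * y)) := by
    intro h
    apply h1
    have h4 := Helper77.memLocalIdeal_sub hMm h h2
    rwa [sub_sub_cancel] at h4
  obtain ⟨h', hh'c, hω⟩ := exists_centralChar_not_memLocalIdeal_of_induced hMm H ξ h3
  obtain ⟨h'', hh'', -, hpp⟩ := exists_conj_centralizer_pPart_mem hM hb hD ⟨ξ, hξ, hω⟩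
  obtain ⟨a, ha⟩ := isConj_iff.mp hh'c
  obtain ⟨e, he⟩ := isConj_iff.mp hh''
  have hg : ((e : G) * a) * ((x' : G) * y) * ((e : G) * a)⁻¹ = (h'' : G) := by
    rw [← he]
    simp only [Subgroup.coe_mul, Subgroup.coe_inv, ← ha]
    group
  have hpart : Cfsg.IsPPart p (h'' : G) (((e : G) * a) * (x' : G) * ((e : G) * a)⁻¹) := by
    rw [← hg]
    exact isPPart_conj (isPPart_mul hxy hxord hyreg) _
  obtain ⟨z', hz'e, hz'⟩ := isPPart_subgroup H hpart
  obtain ⟨hzD, hzc⟩ := hpp z' hz'
  refine ⟨(e : G) * a, ⟨z', hzD, hz'e⟩, ?_⟩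
  rintro w ⟨w', hw', rfl⟩
  show ((e : G) * a) * (x' : G) * ((e : G) * a)⁻¹ * (w' : G)
    = (w' : G) * (((e : G) * a) * (x' : G) * ((e : G) * a)⁻¹)
  rw [← hz'e]
  exact congrArg Subtype.val (hzc w' hw')

end Cfsg.Agent.Helper16
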