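import Cfsg.Agent.Helper16.BlockInd
import Cfsg.Agent.Helper16.ConvAlg
import Cfsg.Agent.Helper75.PrincipalTransport
import Cfsg.Agent.Helper76.Cover
import Cfsg.Agent.Helper15.CharInner

/-!
# Blocks of a normal subgroup inducing the same block are conjugate

* `blockCoeff_memLocalRing_of_closed`: the idempotent of a union of blocks has local coefficients.
* `irrConj N g θ`: the conjugate of an irreducible character of the normal subgroup `N`.
* `conjOrbit M N θ`: the union of the blocks of the conjugates of `θ`.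
* `exists_conj_sameBlock_of_induced`: if the blocks `β`, `β'` of the normal subgroup `N` induce the
  same block of `G`, then a conjugate of a character of `β` lies in `β'`.
-/

set_option autoImplicit false
open Cfsg
open scoped ComplexConjugate

namespace Cfsg.Agent.Helper16

universe u

variable {G : Type u} [Group G] [Fintype G]

/-- The idempotent of a union of blocks has local coefficients. -/
theorem blockCoeff_memLocalRing_of_closed {M : Ideal Cfsg.AlgInt} (hM : M.IsMaximal)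
    {U : Set (Cfsg.IrrCharacter G)}
    (hU : ∀ ψ ψ' : Cfsg.IrrCharacter G, ψ ∈ U → Cfsg.SameBlock M (ψ : G → ℂ) (ψ' : G → ℂ) → ψ' ∈ U)
    (g : G) : Cfsg.MemLocalRing M (Cfsg.blockCoeff U g) := by
  classical
  have := Fintype.ofFinite (Cfsg.IrrCharacter G)
  obtain ⟨𝔅, h𝔅⟩ : ∃ 𝔅 : Finset (Set (Cfsg.IrrCharacter G)),
      𝔅 = (Finset.univ.filter (fun ψ : Cfsg.IrrCharacter G => ψ ∈ U)).image
        (fun ψ : Cfsg.IrrCharacter G => Cfsg.blockOf M (ψ : G → ℂ)) := ⟨_, rfl⟩
  have hmem : ∀ B ∈ 𝔅, ∃ ψ ∈ U, B = Cfsg.blockOf M (ψ : G → ℂ) := by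
    intro B hB
    rw [h𝔅, Finset.mem_image] at hB
    obtain ⟨ψ, hψ, rfl⟩ := hB
    exact ⟨ψ, (Finset.mem_filter.mp hψ).2, rfl⟩
  have key : Cfsg.blockCoeff U = fun g => ∑ B ∈ 𝔅, Cfsg.blockCoeff B g := by
    have hcl : Cfsg.IsClassFunction G (fun g => ∑ B ∈ 𝔅, Cfsg.blockCoeff B g) := by
      intro g h
      exact Finset.sum_congr rfl fun B _ => Helper77.blockCoeff_isClassFunction B g h
    apply Helper77.eq_of_omega_eq (Helper77.blockCoeff_isClassFunction U) hcl
    intro ψ
    have h1 : Helper81.omega (ψ : G → ℂ) (fun g => ∑ B ∈ 𝔅, Cfsg.blockCoeff B g)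
        = ∑ B ∈ 𝔅, Helper81.omega (ψ : G → ℂ) (Cfsg.blockCoeff B) := by
      simp only [Helper81.omega, Finset.sum_mul, ← Finset.sum_div]
      rw [Finset.sum_comm]
    rw [h1]
    by_cases hψ : ψ ∈ U
    · rw [Helper77.omega_blockCoeff_of_mem hψ,
        Finset.sum_eq_single (Cfsg.blockOf M (ψ : G → ℂ))]
      · rw [Helper77.omega_blockCoeff_of_mem (sameBlock_refl hM _)]
      · intro B hB hne
        apply Helper77.omega_blockCoeff_of_not_mem
        intro hψB
        obtain ⟨ψ', -, rfl⟩ := hmem B hB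
        exact hne (blockOf_eq_of_mem hM hψB).symm
      · intro hnot
        exfalso
        apply hnot
        rw [h𝔅, Finset.mem_image]
        exact ⟨ψ, Finset.mem_filter.mpr ⟨Finset.mem_univ _, hψ⟩, rfl⟩
    · rw [Helper77.omega_blockCoeff_of_not_mem hψ]
      symm
      apply Finset.sum_eq_zero
      intro B hB
      apply Helper77.omega_blockCoeff_of_not_mem
      intro hψB
      obtain ⟨ψ', hψ', rfl⟩ := hmem B hB
      exact hψ (hU ψ' ψ hψ' hψB)
  rw [key]
  apply Helper77.memLocalRing_sum hM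
  intro B hB
  obtain ⟨ψ', -, rfl⟩ := hmem B hB
  exact Helper77.blockCoeff_memLocalRing hM ⟨ψ', rfl⟩ g

/-- The conjugate by `g` of an irreducible character of the normal subgroup `N`:
`k ↦ θ (g⁻¹ k g)`. -/
noncomputable def irrConj (N : Subgroup G) [N.Normal] (g : G) (θ : Cfsg.IrrCharacter N) :
    Cfsg.IrrCharacter N :=
  Helper75.irrComp (Helper75.conjEquivOfNormalizer N g
    (by rw [Subgroup.normalizer_eq_top]; exact Subgroup.mem_top g)) θ

omit [Fintype G] in
theorem irrConj_apply (N : Subgroup G) [hN : N.Normal] (g : G) (θ : Cfsg.IrrCharacter N) (k : N) :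
    (irrConj N g θ : N → ℂ) k = (θ : N → ℂ) ⟨g⁻¹ * (k : G) * g, by
      have := hN.conj_mem k k.2 g⁻¹
      rwa [inv_inv] at this⟩ := rfl

omit [Fintype G] in
theorem irrConj_one (N : Subgroup G) [N.Normal] (θ : Cfsg.IrrCharacter N) :
    (irrConj N 1 θ : N → ℂ) = (θ : N → ℂ) := by
  funext k
  rw [irrConj_apply]
  refine congrArg (θ : N → ℂ) (Subtype.ext ?_)
  simp

omit [Fintype G] in
theorem irrConj_irrConj (N : Subgroup G) [N.Normal] (g h : G) (θ : Cfsg.IrrCharacter N) :
    (irrConj N h (irrConj N g θ) : N → ℂ) = (irrConj N (h * g) θ : N → ℂ) := by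
  funext k
  rw [irrConj_apply, irrConj_apply, irrConj_apply]
  refine congrArg (θ : N → ℂ) (Subtype.ext ?_)
  simp [mul_assoc]

omit [Fintype G] in
theorem sameBlock_irrConj {M : Ideal Cfsg.AlgInt} (N : Subgroup G) [N.Normal] (g : G)
    {θ ψ : Cfsg.IrrCharacter N} (h : Cfsg.SameBlock M (θ : N → ℂ) (ψ : N → ℂ)) :
    Cfsg.SameBlock M (irrConj N g θ : N → ℂ) (irrConj N g ψ : N → ℂ) :=
  Helper75.sameBlock_comp_mulEquiv _ h

/-- The union of the blocks of the conjugates of `θ`. -/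
def conjOrbit (M : Ideal Cfsg.AlgInt) (N : Subgroup G) [N.Normal] (θ : Cfsg.IrrCharacter N) :
    Set (Cfsg.IrrCharacter N) :=
  {ψ | ∃ g : G, Cfsg.SameBlock M (irrConj N g θ : N → ℂ) (ψ : N → ℂ)}

omit [Fintype G] in
theorem irrConj_mem_conjOrbit {M : Ideal Cfsg.AlgInt} (N : Subgroup G) [N.Normal]
    (θ : Cfsg.IrrCharacter N) (h : G) {ψ : Cfsg.IrrCharacter N} (hψ : ψ ∈ conjOrbit M N θ) :
    irrConj N h ψ ∈ conjOrbit M N θ := by
  obtain ⟨g, hg⟩ := hψ
  refine ⟨h * g, ?_⟩
  have := sameBlock_irrConj N h hg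
  rwa [irrConj_irrConj] at this

omit [Fintype G] in
theorem conjOrbit_closed {M : Ideal Cfsg.AlgInt} (hM : M.IsMaximal) (N : Subgroup G) [N.Normal]
    [Fintype N] (θ : Cfsg.IrrCharacter N) (ψ ψ' : Cfsg.IrrCharacter N) (hψ : ψ ∈ conjOrbit M N θ)
    (h : Cfsg.SameBlock M (ψ : N → ℂ) (ψ' : N → ℂ)) : ψ' ∈ conjOrbit M N θ := by
  obtain ⟨g, hg⟩ := hψ
  exact ⟨g, sameBlock_trans hM hg h⟩

omit [Fintype G] in
theorem mem_conjOrbit_self {M : Ideal Cfsg.AlgInt} (hM : M.IsMaximal) (N : Subgroup G) [N.Normal]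
    [Fintype N] (θ : Cfsg.IrrCharacter N) : θ ∈ conjOrbit M N θ := by
  refine ⟨1, ?_⟩
  rw [irrConj_one]
  exact sameBlock_refl hM _

omit [Fintype G] in
/-- The idempotent of a conjugation-stable set of characters of `N` is invariant under
conjugation. -/
theorem blockCoeff_conj_of_stable (N : Subgroup G) [hN : N.Normal] [Fintype N]
    {U : Set (Cfsg.IrrCharacter N)} (hU : ∀ h : G, ∀ ψ ∈ U, irrConj N h ψ ∈ U) (g : G) (k : N) :
    Cfsg.blockCoeff U ⟨g⁻¹ * (k : G) * g, by
      have := hN.conj_mem k k.2 g⁻¹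
      rwa [inv_inv] at this⟩ = Cfsg.blockCoeff U k := by
  unfold Cfsg.blockCoeff
  congr 1
  have hbij : Set.BijOn (irrConj N g) U U := by
    refine ⟨fun ψ hψ => hU g ψ hψ, ?_, ?_⟩
    · intro ψ _ ψ' _ h
      apply Subtype.ext
      have h1 : (irrConj N g⁻¹ (irrConj N g ψ) : N → ℂ) = (irrConj N g⁻¹ (irrConj N g ψ') : N → ℂ) := by
        rw [h]
      rw [irrConj_irrConj, irrConj_irrConj, inv_mul_cancel, irrConj_one, irrConj_one] at h1
      exact h1
    · intro ψ hψ
      refine ⟨irrConj N g⁻¹ ψ, hU g⁻¹ ψ hψ, ?_⟩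
      apply Subtype.ext
      rw [irrConj_irrConj, mul_inv_cancel, irrConj_one]
  refine finsum_mem_eq_of_bijOn (irrConj N g) hbij (fun χ _ => ?_)
  rw [irrConj_apply, irrConj_apply]
  congr 1
  refine congrArg (χ : N → ℂ) (Subtype.ext ?_)
  simp

omit [Fintype G] in
/-- The extension by zero of a conjugation-invariant class function of the normal subgroup `N`
is a class function of `G`. -/
theorem ext0_isClassFunction_of_conj (N : Subgroup G) [hN : N.Normal] {f : N → ℂ}
    (hf : ∀ (g : G) (k : N), f ⟨g⁻¹ * (k : G) * g, by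
      have := hN.conj_mem k k.2 g⁻¹
      rwa [inv_inv] at this⟩ = f k) : Cfsg.IsClassFunction G (ext0 N f) := by
  intro x h
  by_cases hx : x ∈ N
  · have hx' : h * x * h⁻¹ ∈ N := hN.conj_mem x hx h
    rw [ext0_apply_mem N f hx, ext0_apply_mem N f hx']
    have := hf h ⟨h * x * h⁻¹, hx'⟩
    rw [← this]
    congr 1
    apply Subtype.ext
    show h⁻¹ * (h * x * h⁻¹) * h = x
    group
  · have hx' : h * x * h⁻¹ ∉ N := by
      intro hc
      apply hx
      have := hN.conj_mem _ hc h⁻¹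
      have e : h⁻¹ * (h * x * h⁻¹) * h⁻¹⁻¹ = x := by group
      rwa [e] at this
    rw [ext0_apply_not_mem N f hx, ext0_apply_not_mem N f hx']

/-- **Blocks of a normal subgroup inducing the same block are conjugate.**  If the blocks `β`
and `β'` of the normal subgroup `N` both induce the block `b₁` of `G`, then for `θ ∈ β` and
`θ' ∈ β'` some conjugate of `θ` lies in the block of `θ'`. -/
theorem exists_conj_sameBlock_of_induced {M : Ideal Cfsg.AlgInt} (hM : M.IsMaximal)
    (N : Subgroup G) [hN : N.Normal] [Fintype N] {β β' : Set (Cfsg.IrrCharacter N)}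
    {b₁ : Set (Cfsg.IrrCharacter G)} (hind : Cfsg.IsInducedBlock M N β b₁)
    (hind' : Cfsg.IsInducedBlock M N β' b₁) {θ θ' : Cfsg.IrrCharacter N} (hθ : θ ∈ β)
    (hθ' : θ' ∈ β') :
    ∃ g : G, Cfsg.SameBlock M (irrConj N g θ : N → ℂ) (θ' : N → ℂ) := by
  classical
  obtain ⟨ξ, hξ⟩ := exists_mem_of_isPBlock hM hind.2.1
  have hres : Cfsg.IsClassFunction N (fun n : N => (ξ : G → ℂ) n) :=
    isClassFunction_res (Helper81.irr_isClassFunction ξ) N
  have hne : (fun n : N => (ξ : G → ℂ) n) ≠ 0 := by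
    intro h0
    have := congrFun h0 1
    exact Helper81.irr_one_ne_zero ξ this
  obtain ⟨ψ, hψ⟩ := Helper15.exists_constituent hres hne
  -- `ψ` lies in the orbit of every block of `N` inducing `b₁`
  have key : ∀ {γ : Set (Cfsg.IrrCharacter N)} (hγ : Cfsg.IsInducedBlock M N γ b₁)
      {η : Cfsg.IrrCharacter N} (hη : η ∈ γ), ψ ∈ conjOrbit M N η := by
    intro γ hγ η hη
    have hE1 : ∀ (g : G) (k : N), Cfsg.blockCoeff (conjOrbit M N η) ⟨g⁻¹ * (k : G) * g, by
        have := hN.conj_mem k k.2 g⁻¹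
        rwa [inv_inv] at this⟩ = Cfsg.blockCoeff (conjOrbit M N η) k :=
      blockCoeff_conj_of_stable N (fun h ψ' hψ' => irrConj_mem_conjOrbit N η h hψ')
    have ha := ext0_isClassFunction_of_conj N hE1
    have haS : ∀ g, Cfsg.MemLocalRing M (ext0 N (Cfsg.blockCoeff (conjOrbit M N η)) g) :=
      ext0_memLocalRing hM N (blockCoeff_memLocalRing_of_closed hM (conjOrbit_closed hM N η))
    have h1 := omega_res_sub_memLocalIdeal hM N hγ hη hξ ha haS
    have e1 : (fun h : N => ext0 N (Cfsg.blockCoeff (conjOrbit M N η)) h)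
        = Cfsg.blockCoeff (conjOrbit M N η) := by
      funext h
      exact ext0_apply_coe N _ h
    have h2 := Helper76.omega_eq_omega_res_of_constituent N ha
      (fun g hg => ext0_apply_not_mem N _ hg) ξ ψ hψ
    rw [e1] at h1 h2
    rw [h2, Helper77.omega_blockCoeff_of_mem (mem_conjOrbit_self hM N η)] at h1
    by_contra hψU
    rw [Helper77.omega_blockCoeff_of_not_mem hψU, sub_zero] at h1
    exact Helper77.not_memLocalIdeal_one hM h1
  obtain ⟨g₁, hg₁⟩ := key hind hθ
  obtain ⟨g₂, hg₂⟩ := key hind' hθ'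
  refine ⟨g₂⁻¹ * g₁, ?_⟩
  have h3 := sameBlock_irrConj N g₂⁻¹ (sameBlock_trans hM hg₁ (sameBlock_symm hg₂))
  rw [irrConj_irrConj, irrConj_irrConj, inv_mul_cancel, irrConj_one] at h3
  exact h3

end Cfsg.Agent.Helper16
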