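import Cfsg.Agent.Helper16.D8Core

/-!
# S3716: computations in the model `WM = S₃ ≀ 2`
-/

set_option autoImplicit false

namespace Cfsg.Agent.Helper16

open DihedralGroup

/-- involutions of type 1 (conjugates of `s₁`): they centralize a subgroup of order 3 of `M` -/
def wTy1 (n : WM) : Prop := n ^ 2 = 1 ∧ n ≠ 1 ∧ n.s = false ∧ (n.n.1 = 1 ∨ n.n.2 = 1)
/-- involutions of type 2 (conjugates of `z`): they invert `M` -/
def wTy2 (n : WM) : Prop := n ^ 2 = 1 ∧ n.s = false ∧ n.n.1 ≠ 1 ∧ n.n.2 ≠ 1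
/-- involutions of type 3 (conjugates of `τ`) -/
def wTy3 (n : WM) : Prop := n ^ 2 = 1 ∧ n.s = true

instance : DecidablePred wTy1 := fun n => by unfold wTy1; infer_instance
instance : DecidablePred wTy2 := fun n => by unfold wTy2; infer_instance
instance : DecidablePred wTy3 := fun n => by unfold wTy3; infer_instance

theorem wm_invol_type : ∀ n : WM, n ^ 2 = 1 → n ≠ 1 → wTy1 n ∨ wTy2 n ∨ wTy3 n := by decide

set_option maxRecDepth 1000000 in
theorem wm_ty1_conj : ∀ n : WM, wTy1 n → ∃ k : WM, k * wS1 * k⁻¹ = n := by decide +kernel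

set_option maxRecDepth 1000000 in
theorem wm_ty2_conj : ∀ n : WM, wTy2 n → ∃ k : WM, k * wZ * k⁻¹ = n := by decide +kernel

set_option maxRecDepth 1000000 in
theorem wm_ty3_conj : ∀ n : WM, wTy3 n → ∃ k : WM, k * wTau * k⁻¹ = n := by decide +kernel

theorem wm_ty1_S1 : wTy1 wS1 := by decide
theorem wm_ty2_Z : wTy2 wZ := by decide
theorem wm_ty3_Tau : wTy3 wTau := by decide

/-- class representatives -/
def wRep : Fin 5 → WM := ![1, wT1, wD, wS1 * wT2, wTau * wD]

theorem wCls_wRep : ∀ k : Fin 5, wCls (wRep k) = k := by decide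

set_option maxRecDepth 1000000 in
theorem wm_cls_rep : ∀ m : WM, ∃ k : WM, k * m * k⁻¹ = wRep (wCls m) ∨ wCls m = 0 := by
  decide +kernel

theorem wm_card_cls : ∀ k : Fin 5,
    (Finset.univ.filter (fun m : WM => wCls m = k)).card = ![40, 4, 4, 12, 12] k := by decide

theorem wm_card : Fintype.card WM = 72 := by decide

/-- `72 ⟨v, v'⟩` -/
def wIP (v v' : Fin 5 → ℤ) : ℤ := ∑ m : WM, if wCls m = 0 then 0 else v (wCls m) * v' (wCls m)

/-- `72 ⟨v, 1⟩` -/
def wI1 (v : Fin 5 → ℤ) : ℤ := ∑ m : WM, if wCls m = 0 then 0 else v (wCls m)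

set_option maxRecDepth 1000000 in
theorem wIP_W1_W1 : wIP vW1 vW1 = 288 := by decide +kernel
set_option maxRecDepth 1000000 in
theorem wIP_W2_W2 : wIP vW2 vW2 = 288 := by decide +kernel
set_option maxRecDepth 1000000 in
theorem wIP_A1_A1 : wIP vA1 vA1 = 288 := by decide +kernel
set_option maxRecDepth 1000000 in
theorem wIP_B1_B1 : wIP vB1 vB1 = 288 := by decide +kernel
set_option maxRecDepth 1000000 in
theorem wIP_W1_W2 : wIP vW1 vW2 = 144 := by decide +kernel
set_option maxRecDepth 1000000 in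
theorem wIP_A1_W1 : wIP vA1 vW1 = 144 := by decide +kernel
set_option maxRecDepth 1000000 in
theorem wIP_B1_W2 : wIP vB1 vW2 = 144 := by decide +kernel
set_option maxRecDepth 1000000 in
theorem wI1_W1 : wI1 vW1 = 72 := by decide +kernel
set_option maxRecDepth 1000000 in
theorem wI1_W2 : wI1 vW2 = 72 := by decide +kernel
set_option maxRecDepth 1000000 in
theorem wI1_A1 : wI1 vA1 = 72 := by decide +kernel
set_option maxRecDepth 1000000 in
theorem wI1_B1 : wI1 vB1 = 72 := by decide +kernel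

/-- the local sums of the class-multiplication formula -/
def wT (v : Fin 5 → ℤ) (P Q : WM → Prop) [DecidablePred P] [DecidablePred Q] : ℤ :=
  ∑ p : WM × WM, if P p.1 ∧ Q p.2 then
    (if wCls (p.1 * p.2) = 0 then 0 else v (wCls (p.1 * p.2))) else 0

set_option maxRecDepth 1000000 in
theorem wT_W1_11 : wT vW1 wTy1 wTy1 = -36 := by decide +kernel
set_option maxRecDepth 1000000 in
theorem wT_W1_13 : wT vW1 wTy1 wTy3 = 0 := by decide +kernel
set_option maxRecDepth 1000000 in
theorem wT_W1_33 : wT vW1 wTy3 wTy3 = 36 := by decide +kernel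
set_option maxRecDepth 1000000 in
theorem wT_W2_11 : wT vW2 wTy1 wTy1 = 36 := by decide +kernel
set_option maxRecDepth 1000000 in
theorem wT_W2_13 : wT vW2 wTy1 wTy3 = 0 := by decide +kernel
set_option maxRecDepth 1000000 in
theorem wT_W2_33 : wT vW2 wTy3 wTy3 = -36 := by decide +kernel

set_option maxRecDepth 1000000 in
theorem wT_W1_aa : wT vW1 (fun n => wTy1 n ∨ wTy2 n) (fun n => wTy1 n ∨ wTy2 n) = 180 := by
  decide +kernel
set_option maxRecDepth 1000000 in
theorem wT_W1_a3 : wT vW1 (fun n => wTy1 n ∨ wTy2 n) wTy3 = 108 := by decide +kernel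
set_option maxRecDepth 1000000 in
theorem wT_W2_aa : wT vW2 (fun n => wTy1 n ∨ wTy2 n) (fun n => wTy1 n ∨ wTy2 n) = 252 := by
  decide +kernel
set_option maxRecDepth 1000000 in
theorem wT_W2_a3 : wT vW2 (fun n => wTy1 n ∨ wTy2 n) wTy3 = 108 := by decide +kernel

set_option maxRecDepth 1000000 in
theorem wT_W1_1c : wT vW1 wTy1 (fun n => wTy3 n ∨ wTy2 n) = 108 := by decide +kernel
set_option maxRecDepth 1000000 in
theorem wT_W1_cc : wT vW1 (fun n => wTy3 n ∨ wTy2 n) (fun n => wTy3 n ∨ wTy2 n) = 252 := by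
  decide +kernel
set_option maxRecDepth 1000000 in
theorem wT_W2_1c : wT vW2 wTy1 (fun n => wTy3 n ∨ wTy2 n) = 108 := by decide +kernel
set_option maxRecDepth 1000000 in
theorem wT_W2_cc : wT vW2 (fun n => wTy3 n ∨ wTy2 n) (fun n => wTy3 n ∨ wTy2 n) = 180 := by
  decide +kernel

theorem wm_S1_T1 : wS1 * wT1 ≠ wT1 * wS1 := by decide

theorem wm_pow_four : ∀ n : WM, n ^ 2 = 1 → n ^ 4 = 1 := by decide

end Cfsg.Agent.Helper16
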