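import Cfsg.Agent.Helper16.CoverInd
import Cfsg.Agent.Helper16.CenterFusion
import Cfsg.Agent.Helper77.BlockCount

/-!
# The extended First Main Theorem

`P` is a defect group of the block `B` of `G`, `N = N_G(P)` and `L` is a normal subgroup of `N`
containing `P C_G(P)` (for instance `L = P C_G(P)`).

* `inducedCentralChar_subgroupOf`, `inducedCentralChar_trans`: transitivity of induced central
  characters through an intermediate subgroup.
* `isDefectGroup_subgroupOf_of_induced`: a block of `H` (`P ≤ H ≤ N_G(P)`) inducing `B` has defect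
  group `P`.
* `extfmt_exists`: some block of `L` with defect group `P` induces `B`.
* `extfmt_conj`: two blocks of `L` inducing `B` are conjugate under `N`.
-/

set_option autoImplicit false
open Cfsg
open scoped ComplexConjugate

namespace Cfsg.Agent.Helper16

universe u

variable {G : Type u} [Group G] [Fintype G]

/-- The induced central character from `L ≤ N`, in terms of the induced central characters from
`L` to `N`. -/
theorem inducedCentralChar_subgroupOf (N L : Subgroup G) (hLN : L ≤ N) [Fintype N] [Fintype L]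
    [Fintype (L.subgroupOf N)] [Fintype (ConjClasses N)] (θ : L → ℂ) (g : G) :
    Cfsg.inducedCentralChar L θ g = ∑ c : ConjClasses N,
      Helper81.classInd g ((Quotient.out c : N) : G) *
        Cfsg.inducedCentralChar (L.subgroupOf N)
          (fun k => θ (Subgroup.subgroupOfEquivOfLe hLN k)) (Quotient.out c) := by
  classical
  rw [inducedCentralChar_eq_omega_res L θ g]
  have ha : Cfsg.IsClassFunction N (fun n : N => Helper81.classInd g (n : G)) :=
    isClassFunction_res (Helper81.classInd_isClassFunction g) N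
  have h1 := omega_res_eq_sum (L.subgroupOf N)
    (fun k => θ (Subgroup.subgroupOfEquivOfLe hLN k)) ha
  rw [← h1]
  unfold Helper81.omega
  have e1 : (fun k : L.subgroupOf N => θ (Subgroup.subgroupOfEquivOfLe hLN k)) 1 = θ 1 := by
    show θ (Subgroup.subgroupOfEquivOfLe hLN 1) = θ 1
    rw [map_one]
  rw [e1]
  congr 1
  exact (Equiv.sum_comp (Subgroup.subgroupOfEquivOfLe hLN).toEquiv
    (fun k : L => Helper81.classInd g (k : G) * θ k)).symm

/-- Transitivity of induced central characters modulo the local ideal. -/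
theorem inducedCentralChar_trans {M : Ideal Cfsg.AlgInt} (hM : M.IsMaximal) {N L : Subgroup G}
    (hLN : L ≤ N) [Fintype N] [Fintype L] [Fintype (L.subgroupOf N)] (θ : L → ℂ)
    (ξ : Cfsg.IrrCharacter N)
    (h : ∀ n : N, Cfsg.MemLocalIdeal M (Cfsg.inducedCentralChar (L.subgroupOf N)
      (fun k => θ (Subgroup.subgroupOfEquivOfLe hLN k)) n - Cfsg.centralChar (ξ : N → ℂ) n))
    (g : G) :
    Cfsg.MemLocalIdeal M (Cfsg.inducedCentralChar L θ g
      - Cfsg.inducedCentralChar N (ξ : N → ℂ) g) := by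
  classical
  rw [inducedCentralChar_subgroupOf N L hLN θ g, inducedCentralChar_eq_omega_res N _ g,
    Helper77.omega_eq_sum_conjClasses ξ (isClassFunction_res (Helper81.classInd_isClassFunction g) N),
    ← Finset.sum_sub_distrib]
  refine Helper77.memLocalIdeal_sum hM _ _ fun c _ => ?_
  rw [← mul_sub]
  exact Helper77.memLocalIdeal_mul hM (classInd_memLocalRing hM g _) (h _)

/-- A block of `H` (`P ≤ H ≤ N_G(P)`) inducing a block with defect group `P` has defect group
`P`. -/
theorem isDefectGroup_subgroupOf_of_induced {p : ℕ} [Fact p.Prime] {M : Ideal Cfsg.AlgInt}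
    (hM : Cfsg.IsPModular p M) {P H : Subgroup G} [Fintype H] (hPp : IsPGroup p P) (hPH : P ≤ H)
    (hHN : H ≤ Subgroup.normalizer (P : Set G)) {b : Set (Cfsg.IrrCharacter H)}
    {B : Set (Cfsg.IrrCharacter G)} (hind : Cfsg.IsInducedBlock M H b B)
    (hP : Cfsg.IsDefectGroup p M B P) : Cfsg.IsDefectGroup p M b (P.subgroupOf H) := by
  classical
  have hMm := hM.2.1
  obtain ⟨Db, hDb⟩ := exists_isDefectGroup (p := p) hMm hind.1
  have : (P.subgroupOf H).Normal := Subgroup.normal_subgroupOf_of_le_normalizer hHN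
  have h1 := normal_pSubgroup_le_defectGroup hM (P.subgroupOf H) hPp.comap_subtype hind.1 hDb
  have h2 := induced_defect_conjLE hM _ hind hDb hP
  have h3 : P.subgroupOf H = Db := by
    apply Subgroup.eq_of_le_of_card_ge h1
    calc Nat.card Db = Nat.card (Db.map H.subtype) :=
        (Subgroup.card_map_of_injective (Subgroup.subtype_injective _)).symm
      _ ≤ Nat.card P := h2.card_le
      _ = Nat.card (P.subgroupOf H) :=
        (Nat.card_congr (Subgroup.subgroupOfEquivOfLe hPH).toEquiv).symm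
  rw [h3]
  exact hDb

/-- **Extended First Main Theorem, existence.** -/
theorem extfmt_exists {p : ℕ} [Fact p.Prime] {M : Ideal Cfsg.AlgInt}
    (hM : Cfsg.IsPModular p M) {B : Set (Cfsg.IrrCharacter G)} (hB : Cfsg.IsPBlock M B)
    {P : Subgroup G} (hP : Cfsg.IsDefectGroup p M B P) (L : Subgroup G) [Fintype L] (hPL : P ≤ L)
    (hCL : Subgroup.centralizer (P : Set G) ≤ L) (hLN : L ≤ Subgroup.normalizer (P : Set G)) :
    ∃ b : Set (Cfsg.IrrCharacter L), Cfsg.IsDefectGroup p M b (P.subgroupOf L) ∧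
      Cfsg.IsInducedBlock M L b B := by
  classical
  obtain ⟨-, -, -, -, hPp⟩ := isDefectGroup_exists_data hP
  obtain ⟨b, hind⟩ := exists_isInducedBlock_of_conjLE hM P L hPp hPL hCL hLN hB hP
    (ConjLE.of_le le_rfl)
  exact ⟨b, isDefectGroup_subgroupOf_of_induced hM hPp hPL hLN hind hP, hind⟩

/-- **Extended First Main Theorem, conjugacy.**  Two blocks of `L` inducing the block `B` with
defect group `P` are conjugate under `N_G(P)`. -/
theorem extfmt_conj {p : ℕ} [Fact p.Prime] {M : Ideal Cfsg.AlgInt}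
    (hM : Cfsg.IsPModular p M) {B : Set (Cfsg.IrrCharacter G)} (hB : Cfsg.IsPBlock M B)
    {P : Subgroup G} (hP : Cfsg.IsDefectGroup p M B P) (L : Subgroup G) (hPL : P ≤ L)
    (hCL : Subgroup.centralizer (P : Set G) ≤ L) (hLN : L ≤ Subgroup.normalizer (P : Set G))
    (hNL : Subgroup.normalizer (P : Set G) ≤ Subgroup.normalizer (L : Set G))
    {b b' : Set (Cfsg.IrrCharacter L)} (hind : Cfsg.IsInducedBlock M L b B)
    (hind' : Cfsg.IsInducedBlock M L b' B) :
    ∃ n ∈ Subgroup.normalizer (P : Set G), ∀ θ ∈ b, ∃ θ' ∈ b', ∀ x : L,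
      ∀ hx : n * (x : G) * n⁻¹ ∈ L, (θ' : L → ℂ) x = (θ : L → ℂ) ⟨n * (x : G) * n⁻¹, hx⟩ := by
  classical
  have hMm := hM.2.1
  obtain ⟨-, -, -, -, hPp⟩ := isDefectGroup_exists_data hP
  have hPN : P ≤ Subgroup.normalizer (P : Set G) := Subgroup.le_normalizer
  have hP'n : (P.subgroupOf (Subgroup.normalizer (P : Set G))).Normal :=
    Subgroup.normal_subgroupOf_of_le_normalizer le_rfl
  have hL'n : (L.subgroupOf (Subgroup.normalizer (P : Set G))).Normal :=
    Subgroup.normal_subgroupOf_of_le_normalizer hNL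
  have hP' : IsPGroup p (P.subgroupOf (Subgroup.normalizer (P : Set G))) := hPp.comap_subtype
  have hP'L' : P.subgroupOf (Subgroup.normalizer (P : Set G))
      ≤ L.subgroupOf (Subgroup.normalizer (P : Set G)) := Subgroup.subgroupOf_mono _ hPL
  have hCL' : Subgroup.centralizer
      ((P.subgroupOf (Subgroup.normalizer (P : Set G)) : Subgroup _) : Set _)
      ≤ L.subgroupOf (Subgroup.normalizer (P : Set G)) := by
    intro x hx
    rw [Subgroup.mem_subgroupOf]
    apply hCL
    rw [Subgroup.mem_centralizer_iff] at hx ⊢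
    intro u hu
    have := hx ⟨u, hPN hu⟩ (by rw [SetLike.mem_coe, Subgroup.mem_subgroupOf]; exact hu)
    exact congrArg Subtype.val this
  have hL'N' : L.subgroupOf (Subgroup.normalizer (P : Set G)) ≤ Subgroup.normalizer
      ((P.subgroupOf (Subgroup.normalizer (P : Set G)) : Subgroup _) : Set _) := by
    have e := Subgroup.normalizer_eq_top (H := P.subgroupOf (Subgroup.normalizer (P : Set G)))
    rw [e]; exact le_top
  -- the construction for one block
  have step : ∀ {c : Set (Cfsg.IrrCharacter L)} (_ : Cfsg.IsInducedBlock M L c B)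
      {θ : Cfsg.IrrCharacter L} (_ : θ ∈ c),
      ∃ b₁ : Set (Cfsg.IrrCharacter (Subgroup.normalizer (P : Set G))),
        Cfsg.IsInducedBlock M (L.subgroupOf (Subgroup.normalizer (P : Set G)))
          (Cfsg.blockOf M (Helper75.irrComp (Subgroup.subgroupOfEquivOfLe hLN) θ :
            L.subgroupOf (Subgroup.normalizer (P : Set G)) → ℂ)) b₁ ∧
        Cfsg.IsInducedBlock M (Subgroup.normalizer (P : Set G)) b₁ B := by
    intro c hc θ hθ
    have hβ : Cfsg.IsPBlock M (Cfsg.blockOf M (Helper75.irrComp (Subgroup.subgroupOfEquivOfLe hLN) θ :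
        L.subgroupOf (Subgroup.normalizer (P : Set G)) → ℂ)) := ⟨_, rfl⟩
    obtain ⟨b₁, hb₁⟩ := exists_isInducedBlock hM (P.subgroupOf (Subgroup.normalizer (P : Set G)))
      (L.subgroupOf (Subgroup.normalizer (P : Set G))) hP' hP'L' hCL' hL'N' hβ
    refine ⟨b₁, hb₁, ?_⟩
    obtain ⟨B₁, hB₁⟩ := exists_isInducedBlock hM P (Subgroup.normalizer (P : Set G)) hPp hPN
      (Subgroup.centralizer_le_normalizer _) le_rfl hb₁.2.1
    obtain ⟨ξ, hξ⟩ := exists_mem_of_isPBlock hMm hb₁.2.1
    obtain ⟨χ₁, hχ₁⟩ := exists_mem_of_isPBlock hMm hB₁.2.1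
    obtain ⟨χ, hχ⟩ := exists_mem_of_isPBlock hMm hB
    have h1 := inducedCentralChar_trans hMm hLN (θ : L → ℂ) ξ
      (fun n => hb₁.2.2 (Helper75.irrComp (Subgroup.subgroupOfEquivOfLe hLN) θ)
        (sameBlock_refl hMm _) ξ hξ n)
    have h2 : Cfsg.SameBlock M (χ : G → ℂ) (χ₁ : G → ℂ) := by
      intro g
      have a1 := hc.2.2 θ hθ χ hχ g
      have a2 := h1 g
      have a3 := hB₁.2.2 ξ hξ χ₁ hχ₁ g
      have a4 := Helper77.memLocalIdeal_add hMm (Helper77.memLocalIdeal_sub hMm a2 a1) a3
      have e : Cfsg.inducedCentralChar L (θ : L → ℂ) g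
            - Cfsg.inducedCentralChar (Subgroup.normalizer (P : Set G))
              (ξ : Subgroup.normalizer (P : Set G) → ℂ) g
            - (Cfsg.inducedCentralChar L (θ : L → ℂ) g - Cfsg.centralChar (χ : G → ℂ) g)
            + (Cfsg.inducedCentralChar (Subgroup.normalizer (P : Set G))
              (ξ : Subgroup.normalizer (P : Set G) → ℂ) g - Cfsg.centralChar (χ₁ : G → ℂ) g)
          = Cfsg.centralChar (χ : G → ℂ) g - Cfsg.centralChar (χ₁ : G → ℂ) g := by ring
      rwa [e] at a4
    have h3 : B₁ = B := by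
      apply Helper77.block_eq_of_mem hMm hB₁.2.1 hB hχ₁
      rw [eq_blockOf_of_mem hMm hB hχ]
      exact h2
    rw [← h3]
    exact hB₁
  obtain ⟨θ, hθ⟩ := exists_mem_of_isPBlock hMm hind.1
  obtain ⟨θ', hθ'⟩ := exists_mem_of_isPBlock hMm hind'.1
  obtain ⟨b₁, hb₁, hb₁B⟩ := step hind hθ
  obtain ⟨b₁', hb₁', hb₁'B⟩ := step hind' hθ'
  have hD₁ : Cfsg.IsDefectGroup p M b₁ (P.subgroupOf (Subgroup.normalizer (P : Set G))) :=
    isDefectGroup_subgroupOf_of_induced hM hPp hPN le_rfl hb₁B hP
  have heq : b₁' = b₁ := fmt_unique hM P hPp hD₁ hb₁B hb₁'B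
  rw [heq] at hb₁'
  obtain ⟨m, hm⟩ := exists_conj_sameBlock_of_induced hMm
    (L.subgroupOf (Subgroup.normalizer (P : Set G))) hb₁ hb₁'
    (sameBlock_refl hMm _) (sameBlock_refl hMm _)
  have hmL : (m : G) ∈ Subgroup.normalizer (L : Set G) := hNL m.2
  have h4 : Cfsg.SameBlock M
      (Helper75.irrComp (Helper75.conjEquivOfNormalizer L (m : G) hmL) θ : L → ℂ)
      (θ' : L → ℂ) := by
    have h5 := Helper75.sameBlock_comp_mulEquiv (Subgroup.subgroupOfEquivOfLe hLN).symm hm
    have e1 : (fun x : L => (irrConj (L.subgroupOf (Subgroup.normalizer (P : Set G))) m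
          (Helper75.irrComp (Subgroup.subgroupOfEquivOfLe hLN) θ) :
            L.subgroupOf (Subgroup.normalizer (P : Set G)) → ℂ)
          ((Subgroup.subgroupOfEquivOfLe hLN).symm x))
        = (Helper75.irrComp (Helper75.conjEquivOfNormalizer L (m : G) hmL) θ : L → ℂ) := by
      funext x
      rw [irrConj_apply, Helper75.irrComp_apply, Helper75.irrComp_apply]
      refine congrArg (θ : L → ℂ) (Subtype.ext ?_)
      rfl
    have e2 : (fun x : L => (Helper75.irrComp (Subgroup.subgroupOfEquivOfLe hLN) θ' :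
          L.subgroupOf (Subgroup.normalizer (P : Set G)) → ℂ)
          ((Subgroup.subgroupOfEquivOfLe hLN).symm x)) = (θ' : L → ℂ) := by
      funext x
      rw [Helper75.irrComp_apply, MulEquiv.apply_symm_apply]
    rw [e1, e2] at h5
    exact h5
  refine ⟨(m : G)⁻¹, Subgroup.inv_mem _ m.2, fun θ₂ hθ₂ => ?_⟩
  refine ⟨Helper75.irrComp (Helper75.conjEquivOfNormalizer L (m : G) hmL) θ₂, ?_, ?_⟩
  · rw [eq_blockOf_of_mem hMm hind'.1 hθ']
    have h5 := Helper75.sameBlock_comp_mulEquiv (Helper75.conjEquivOfNormalizer L (m : G) hmL)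
      (sameBlock_of_mem hMm hind.1 hθ hθ₂)
    exact sameBlock_trans hMm (sameBlock_symm h4) h5
  · intro x hx
    rw [Helper75.irrComp_apply]
    refine congrArg (θ₂ : L → ℂ) (Subtype.ext ?_)
    rw [Helper75.conjEquivOfNormalizer_apply]
    simp

end Cfsg.Agent.Helper16
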