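import Cfsg.Agent.Helper16.BrauerCorr
import Cfsg.Agent.S0916

/-!
# Brauer's First Main Theorem

`D` is a `p`-subgroup of `G` and `N = N_G(D)`.

* `exists_sylow_centralizer_of_normalizer`: if `D` is a Sylow `p`-subgroup of `C_N(y)` then it is
  a Sylow `p`-subgroup of `C_G(y)`.
* `brauerCentralChar_eq_centralChar`: for such `y`, the Brauer central character at `y` of an
  irreducible character `ξ` of `N` is its central character at `y`.
* `fmt_defectGroup`: if the block `b` of `N` has defect group `D` and induces `B`, then `D` is a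
  defect group of `B`.
* `fmt_exists`: a block `B` of `G` with defect group `D` is induced from a block of `N` with
  defect group `D`.
* `fmt_unique`: that block is unique.
-/

set_option autoImplicit false
open Cfsg

namespace Cfsg.Agent.Helper16

universe u

variable {G : Type u} [Group G] [Fintype G]

omit [Fintype G] in
/-- The centralizer of `y` in the subgroup `N` has the same order as `C_G(y) ⊓ N`. -/
theorem card_centralizer_subgroup (N : Subgroup G) (y : N) :
    Nat.card (Subgroup.centralizer ({y} : Set N))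
      = Nat.card (Subgroup.centralizer ({(y : G)} : Set G) ⊓ N : Subgroup G) := by
  refine Nat.card_congr ⟨fun k => ⟨(k.1 : G), ?_⟩, fun k => ⟨⟨k.1, (Subgroup.mem_inf.mp k.2).2⟩, ?_⟩,
    fun k => rfl, fun k => rfl⟩
  · refine Subgroup.mem_inf.mpr ⟨?_, k.1.2⟩
    have h1 := Subgroup.mem_centralizer_iff.mp k.2 y rfl
    rw [Subgroup.mem_centralizer_iff]
    intro z hz
    rw [Set.mem_singleton_iff] at hz
    subst hz
    exact congrArg Subtype.val h1
  · have h1 := Subgroup.mem_centralizer_iff.mp (Subgroup.mem_inf.mp k.2).1 (y : G) rfl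
    rw [Subgroup.mem_centralizer_iff]
    intro z hz
    rw [Set.mem_singleton_iff] at hz
    subst hz
    exact Subtype.ext h1

omit [Fintype G] in
/-- If `D` (viewed in `N = N_G(D)`) has the order of a Sylow `p`-subgroup of `C_N(y)` and
centralizes `y`, then `D` is a Sylow `p`-subgroup of `C_G(y)`. -/
theorem exists_sylow_centralizer_of_normalizer [Finite G] {p : ℕ} [Fact p.Prime] (D : Subgroup G)
    (hD : IsPGroup p D) (y : Subgroup.normalizer (D : Set G))
    (hy : (y : G) ∈ Subgroup.centralizer (D : Set G))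
    (hcard : Nat.card D = p ^ (Nat.card (Subgroup.centralizer
      ({y} : Set (Subgroup.normalizer (D : Set G))))).factorization p) :
    ∃ S : Sylow p (Subgroup.centralizer ({(y : G)} : Set G)),
      (S : Subgroup (Subgroup.centralizer ({(y : G)} : Set G))).map
        (Subgroup.centralizer ({(y : G)} : Set G)).subtype = D := by
  apply (Cfsg.Agent.S0916.result p D hD).2 (y : G) hy
  rw [card_centralizer_subgroup] at hcard
  apply exists_sylow_map_subtype_eq _ hcard
  intro d hd
  refine Subgroup.mem_inf.mpr ⟨?_, Subgroup.le_normalizer hd⟩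
  rw [Subgroup.mem_centralizer_iff]
  intro z hz
  rw [Set.mem_singleton_iff] at hz
  subst hz
  exact (Subgroup.mem_centralizer_iff.mp hy d hd).symm

/-- If `D` is a Sylow `p`-subgroup of `C_G(y)` with `y ∈ N = N_G(D)`, the Brauer map sends the
class sum of `y` in `G` to the class sum of `y` in `N`. -/
theorem brRes_classInd_eq {p : ℕ} [Fact p.Prime] (D : Subgroup G)
    (hD : IsPGroup p D) [Fintype (Subgroup.normalizer (D : Set G))]
    (y : Subgroup.normalizer (D : Set G))
    (hS : ∃ S : Sylow p (Subgroup.centralizer ({(y : G)} : Set G)),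
      (S : Subgroup (Subgroup.centralizer ({(y : G)} : Set G))).map
        (Subgroup.centralizer ({(y : G)} : Set G)).subtype = D) :
    brRes D (Subgroup.normalizer (D : Set G)) (Helper81.classInd (y : G)) = Helper81.classInd y := by
  classical
  have h0 := (Cfsg.Agent.S0916.result p D hD).1 (y : G) hS
  have hy : (y : G) ∈ Subgroup.centralizer (D : Set G) := by
    obtain ⟨S, hS⟩ := hS
    obtain ⟨hle, -⟩ := sylow_map_subtype_le_card S
    rw [hS] at hle
    rw [Subgroup.mem_centralizer_iff]
    intro d hd
    have := Subgroup.mem_centralizer_iff.mp (hle hd) (y : G) rfl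
    exact this.symm
  funext h
  by_cases hh : (h : G) ∈ Subgroup.centralizer (D : Set G)
  · rw [brRes_apply_of_mem _ hh]
    simp only [Helper81.classInd]
    by_cases hc : IsConj (y : G) (h : G)
    · rw [if_pos hc]
      obtain ⟨n, hn, hn2⟩ := h0.2 (y : G) (h : G) (IsConj.refl _) hc hy hh
      have : IsConj y h := isConj_iff.mpr ⟨⟨n, hn⟩, Subtype.ext hn2⟩
      rw [if_pos this]
    · rw [if_neg hc]
      have : ¬ IsConj y h := by
        intro h1
        apply hc
        obtain ⟨t, ht⟩ := isConj_iff.mp h1
        exact isConj_iff.mpr ⟨(t : G), by rw [← ht]; rfl⟩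
      rw [if_neg this]
  · rw [brRes_apply_of_not_mem _ hh]
    simp only [Helper81.classInd]
    have : ¬ IsConj y h := by
      intro h1
      apply hh
      obtain ⟨t, ht⟩ := isConj_iff.mp h1
      have h2 := (conj_mem_centralizer_iff t.2 (y : G)).mpr hy
      rw [← ht]
      exact h2
    rw [if_neg this]

/-- For `y ∈ N = N_G(D)` such that `D` is a Sylow `p`-subgroup of `C_G(y)`, the Brauer central
character of an irreducible character of `N` at `y` is its central character at `y`. -/
theorem brauerCentralChar_eq_centralChar {p : ℕ} [Fact p.Prime] (D : Subgroup G)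
    (hD : IsPGroup p D) [Fintype (Subgroup.normalizer (D : Set G))]
    (y : Subgroup.normalizer (D : Set G))
    (hS : ∃ S : Sylow p (Subgroup.centralizer ({(y : G)} : Set G)),
      (S : Subgroup (Subgroup.centralizer ({(y : G)} : Set G))).map
        (Subgroup.centralizer ({(y : G)} : Set G)).subtype = D)
    (ξ : Cfsg.IrrCharacter (Subgroup.normalizer (D : Set G))) :
    Cfsg.brauerCentralChar D (Subgroup.normalizer (D : Set G))
      (ξ : Subgroup.normalizer (D : Set G) → ℂ) (y : G)
      = Cfsg.centralChar (ξ : Subgroup.normalizer (D : Set G) → ℂ) y := by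
  rw [brauerCentralChar_eq_omega, brRes_classInd_eq D hD y hS, Helper81.omega_classInd]

/-- If `b` induces `B` from `N = N_G(D)`, `ξ ∈ b`, `χ ∈ B` and `D` is a Sylow `p`-subgroup of
`C_G(y)` for `y ∈ N`, then the central characters of `ξ` and `χ` at `y` are congruent. -/
theorem centralChar_sub_centralChar_memLocalIdeal {p : ℕ} [Fact p.Prime] {M : Ideal Cfsg.AlgInt}
    (hM : Cfsg.IsPModular p M) (D : Subgroup G)
    (hD : IsPGroup p D) [Fintype (Subgroup.normalizer (D : Set G))]
    {b : Set (Cfsg.IrrCharacter (Subgroup.normalizer (D : Set G)))}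
    {B : Set (Cfsg.IrrCharacter G)}
    (hind : Cfsg.IsInducedBlock M (Subgroup.normalizer (D : Set G)) b B)
    {ξ : Cfsg.IrrCharacter (Subgroup.normalizer (D : Set G))} (hξ : ξ ∈ b)
    {χ : Cfsg.IrrCharacter G} (hχ : χ ∈ B)
    (y : Subgroup.normalizer (D : Set G))
    (hS : ∃ S : Sylow p (Subgroup.centralizer ({(y : G)} : Set G)),
      (S : Subgroup (Subgroup.centralizer ({(y : G)} : Set G))).map
        (Subgroup.centralizer ({(y : G)} : Set G)).subtype = D) :
    Cfsg.MemLocalIdeal M (Cfsg.centralChar (ξ : Subgroup.normalizer (D : Set G) → ℂ) y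
      - Cfsg.centralChar (χ : G → ℂ) (y : G)) := by
  have hMm := hM.2.1
  have h1 := hind.2.2 ξ hξ χ hχ (y : G)
  have h2 := inducedCentralChar_sub_brauerCentralChar_memLocalIdeal hM D
    (Subgroup.normalizer (D : Set G)) hD Subgroup.le_normalizer le_rfl ξ (y : G)
  rw [brauerCentralChar_eq_centralChar D hD y hS ξ] at h2
  have h3 := Helper77.memLocalIdeal_sub hMm h1 h2
  have e : Cfsg.inducedCentralChar (Subgroup.normalizer (D : Set G))
        (ξ : Subgroup.normalizer (D : Set G) → ℂ) (y : G) - Cfsg.centralChar (χ : G → ℂ) (y : G)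
      - (Cfsg.inducedCentralChar (Subgroup.normalizer (D : Set G))
        (ξ : Subgroup.normalizer (D : Set G) → ℂ) (y : G)
        - Cfsg.centralChar (ξ : Subgroup.normalizer (D : Set G) → ℂ) y)
      = Cfsg.centralChar (ξ : Subgroup.normalizer (D : Set G) → ℂ) y
        - Cfsg.centralChar (χ : G → ℂ) (y : G) := by ring
  rwa [e] at h3

/-- **First Main Theorem, defect groups.**  If the block `b` of `N = N_G(D)` has defect group `D`
and induces the block `B` of `G`, then `D` is a defect group of `B`. -/
theorem fmt_defectGroup {p : ℕ} [Fact p.Prime] {M : Ideal Cfsg.AlgInt}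
    (hM : Cfsg.IsPModular p M) (D : Subgroup G)
    (hD : IsPGroup p D) [Fintype (Subgroup.normalizer (D : Set G))]
    {b : Set (Cfsg.IrrCharacter (Subgroup.normalizer (D : Set G)))}
    {B : Set (Cfsg.IrrCharacter G)}
    (hind : Cfsg.IsInducedBlock M (Subgroup.normalizer (D : Set G)) b B)
    (hDb : Cfsg.IsDefectGroup p M b (D.subgroupOf (Subgroup.normalizer (D : Set G)))) :
    Cfsg.IsDefectGroup p M B D := by
  classical
  have hMm := hM.2.1
  have hb := hind.1
  have hB := hind.2.1
  have hDN : D ≤ Subgroup.normalizer (D : Set G) := Subgroup.le_normalizer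
  obtain ⟨E, hE⟩ := exists_isDefectGroup (p := p) hMm hB
  have h1 := induced_defect_conjLE hM _ hind hDb hE
  rw [Subgroup.map_subgroupOf_eq_of_le hDN] at h1
  -- a defect class of `b`
  obtain ⟨y, hy, hyD, hycard, -⟩ := isDefectGroup_exists_data hDb
  have hyc : (y : G) ∈ Subgroup.centralizer (D : Set G) := by
    rw [Subgroup.mem_centralizer_iff]
    intro d hd
    have h2 := Subgroup.mem_centralizer_iff.mp
      (hyD (show (⟨d, hDN hd⟩ : Subgroup.normalizer (D : Set G)) ∈ D.subgroupOf _ from by
        rw [Subgroup.mem_subgroupOf]; exact hd)) y rfl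
    exact (congrArg Subtype.val h2).symm
  have hcard' : Nat.card D = p ^ (Nat.card (Subgroup.centralizer
      ({y} : Set (Subgroup.normalizer (D : Set G))))).factorization p := by
    rw [← hycard]
    exact (Nat.card_congr (Subgroup.subgroupOfEquivOfLe hDN).toEquiv).symm
  have hS := exists_sylow_centralizer_of_normalizer D hD y hyc hcard'
  obtain ⟨ξ, hξ⟩ := exists_mem_of_isPBlock hMm hb
  obtain ⟨χ, hχ⟩ := exists_mem_of_isPBlock hMm hB
  have h2 := centralChar_sub_centralChar_memLocalIdeal hM D hD hind hξ hχ y hS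
  have h3 : ¬ Cfsg.MemLocalIdeal M (Cfsg.centralChar (χ : G → ℂ) (y : G)) := by
    intro h4
    apply hy.2.2 ξ hξ
    have h5 := Helper77.memLocalIdeal_add hMm h2 h4
    rwa [sub_add_cancel] at h5
  obtain ⟨S, hS⟩ := hS
  obtain ⟨gE, hgE, hEC, -, hEp⟩ := isDefectGroup_exists_data hE
  have h4 := minmax_conjLE hM hB (y : G) ⟨χ, hχ, h3⟩ S gE hgE.2.1 E hEp hEC
  rw [hS] at h4
  -- `D ≤ E^x` and `|E| ≤ |D|`
  obtain ⟨x, hx⟩ := h1.exists_le_map
  have h5 : D = E.map (MulAut.conj x).toMonoidHom := by
    apply Subgroup.eq_of_le_of_card_ge hx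
    rw [Subgroup.card_map_of_injective (MulAut.conj x).injective]
    exact h4.card_le
  rw [h5]
  exact isDefectGroup_conj hE x

/-- **First Main Theorem, existence.**  A block `B` of `G` with defect group `D` is induced from a
block of `N_G(D)` with defect group `D`. -/
theorem fmt_exists {p : ℕ} [Fact p.Prime] {M : Ideal Cfsg.AlgInt}
    (hM : Cfsg.IsPModular p M) (D : Subgroup G) [Fintype (Subgroup.normalizer (D : Set G))]
    {B : Set (Cfsg.IrrCharacter G)} (hB : Cfsg.IsPBlock M B)
    (hDB : Cfsg.IsDefectGroup p M B D) :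
    ∃ b : Set (Cfsg.IrrCharacter (Subgroup.normalizer (D : Set G))), Cfsg.IsPBlock M b ∧
      Cfsg.IsDefectGroup p M b (D.subgroupOf (Subgroup.normalizer (D : Set G))) ∧
      Cfsg.IsInducedBlock M (Subgroup.normalizer (D : Set G)) b B := by
  classical
  have hMm := hM.2.1
  obtain ⟨-, -, -, -, hD⟩ := isDefectGroup_exists_data hDB
  have hDN : D ≤ Subgroup.normalizer (D : Set G) := Subgroup.le_normalizer
  obtain ⟨b, hind⟩ := exists_isInducedBlock_of_conjLE hM D (Subgroup.normalizer (D : Set G)) hD
    hDN (Subgroup.centralizer_le_normalizer _) le_rfl hB hDB (ConjLE.of_le le_rfl)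
  refine ⟨b, hind.1, ?_, hind⟩
  obtain ⟨Db, hDb⟩ := exists_isDefectGroup (p := p) hMm hind.1
  have : (D.subgroupOf (Subgroup.normalizer (D : Set G))).Normal :=
    Subgroup.normal_subgroupOf_of_le_normalizer le_rfl
  have h1 := normal_pSubgroup_le_defectGroup hM (D.subgroupOf (Subgroup.normalizer (D : Set G)))
    hD.comap_subtype hind.1 hDb
  have h2 := induced_defect_conjLE hM _ hind hDb hDB
  have h3 : D.subgroupOf (Subgroup.normalizer (D : Set G)) = Db := by
    apply Subgroup.eq_of_le_of_card_ge h1
    calc Nat.card Db = Nat.card (Db.map (Subgroup.normalizer (D : Set G)).subtype) :=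
        (Subgroup.card_map_of_injective (Subgroup.subtype_injective _)).symm
      _ ≤ Nat.card D := h2.card_le
      _ = Nat.card (D.subgroupOf (Subgroup.normalizer (D : Set G))) :=
        (Nat.card_congr (Subgroup.subgroupOfEquivOfLe hDN).toEquiv).symm
  rw [h3]
  exact hDb

/-- **First Main Theorem, uniqueness.**  Two blocks of `N_G(D)` with defect group `D` inducing the
same block of `G` are equal. -/
theorem fmt_unique {p : ℕ} [Fact p.Prime] {M : Ideal Cfsg.AlgInt}
    (hM : Cfsg.IsPModular p M) (D : Subgroup G) (hD : IsPGroup p D)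
    [Fintype (Subgroup.normalizer (D : Set G))]
    {B : Set (Cfsg.IrrCharacter G)}
    {b₁ b₂ : Set (Cfsg.IrrCharacter (Subgroup.normalizer (D : Set G)))}
    (hD₁ : Cfsg.IsDefectGroup p M b₁ (D.subgroupOf (Subgroup.normalizer (D : Set G))))
    (hind₁ : Cfsg.IsInducedBlock M (Subgroup.normalizer (D : Set G)) b₁ B)
    (hind₂ : Cfsg.IsInducedBlock M (Subgroup.normalizer (D : Set G)) b₂ B) :
    b₂ = b₁ := by
  classical
  have hMm := hM.2.1
  have hb₁ := hind₁.1
  have hb₂ := hind₂.1
  have hB := hind₁.2.1
  have hDN : D ≤ Subgroup.normalizer (D : Set G) := Subgroup.le_normalizer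
  have hnorm : (D.subgroupOf (Subgroup.normalizer (D : Set G))).Normal :=
    Subgroup.normal_subgroupOf_of_le_normalizer le_rfl
  have hD' : IsPGroup p (D.subgroupOf (Subgroup.normalizer (D : Set G))) := hD.comap_subtype
  obtain ⟨ξ₁, hξ₁⟩ := exists_mem_of_isPBlock hMm hb₁
  obtain ⟨ξ₂, hξ₂⟩ := exists_mem_of_isPBlock hMm hb₂
  obtain ⟨χ, hχ⟩ := exists_mem_of_isPBlock hMm hB
  have he₁S := Helper77.blockCoeff_memLocalRing hMm hb₁
  -- `Ω_{ξ₂}(e₁) ≡ Ω_{ξ₁}(e₁) = 1`
  have key : Cfsg.MemLocalIdeal M
      (Helper81.omega (ξ₂ : Subgroup.normalizer (D : Set G) → ℂ) (Cfsg.blockCoeff b₁)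
        - Helper81.omega (ξ₁ : Subgroup.normalizer (D : Set G) → ℂ) (Cfsg.blockCoeff b₁)) := by
    rw [Helper77.omega_eq_sum_conjClasses ξ₂ (Helper77.blockCoeff_isClassFunction b₁),
      Helper77.omega_eq_sum_conjClasses ξ₁ (Helper77.blockCoeff_isClassFunction b₁),
      ← Finset.sum_sub_distrib]
    refine Helper77.memLocalIdeal_sum hMm _ _ fun c _ => ?_
    rw [← mul_sub]
    set y : Subgroup.normalizer (D : Set G) := Quotient.out c with hy
    by_cases hyc : (y : G) ∈ Subgroup.centralizer (D : Set G)
    · by_cases hyI : Cfsg.MemLocalIdeal M (Cfsg.blockCoeff b₁ y)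
      · exact Helper77.memLocalIdeal_mul' hMm hyI (Helper77.memLocalRing_sub hMm
          (centralChar_memLocalRing hMm ξ₂ y) (centralChar_memLocalRing hMm ξ₁ y))
      · apply Helper77.memLocalIdeal_mul hMm (he₁S y)
        -- `D` is a Sylow subgroup of `C_N(y)`
        obtain ⟨g₁, hg₁, P₁, hP₁⟩ := hD₁
        have Sy : Sylow p (Subgroup.centralizer ({y} : Set (Subgroup.normalizer (D : Set G)))) :=
          default
        obtain ⟨hQle, hQcard⟩ := sylow_map_subtype_le_card Sy
        have h1 := minmax_conjLE hM hb₁ g₁ ⟨ξ₁, hξ₁, hg₁.2.2 ξ₁ hξ₁⟩ P₁ y hyI _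
          (Sy.2.map _) hQle
        rw [← hP₁] at h1
        have hD'C : D.subgroupOf (Subgroup.normalizer (D : Set G))
            ≤ Subgroup.centralizer ({y} : Set (Subgroup.normalizer (D : Set G))) := by
          intro d hd
          rw [Subgroup.mem_subgroupOf] at hd
          have h2 := Subgroup.mem_centralizer_iff.mp hyc (d : G) hd
          rw [Subgroup.mem_centralizer_iff]
          intro z hz
          rw [Set.mem_singleton_iff] at hz
          subst hz
          exact Subtype.ext h2.symm
        have hn2 : ((D.subgroupOf (Subgroup.normalizer (D : Set G))).subgroupOf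
            (Subgroup.centralizer ({y} : Set (Subgroup.normalizer (D : Set G))))).Normal :=
          hnorm.subgroupOf _
        have h2 := normal_le_sylow ((D.subgroupOf (Subgroup.normalizer (D : Set G))).subgroupOf
          (Subgroup.centralizer ({y} : Set (Subgroup.normalizer (D : Set G)))))
          hD'.comap_subtype Sy
        have h3 : D.subgroupOf (Subgroup.normalizer (D : Set G))
            ≤ (Sy : Subgroup _).map (Subgroup.centralizer
              ({y} : Set (Subgroup.normalizer (D : Set G)))).subtype := by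
          intro d hd
          exact ⟨⟨d, hD'C hd⟩, h2 (by rw [Subgroup.mem_subgroupOf]; exact hd), rfl⟩
        have h4 := Subgroup.eq_of_le_of_card_ge h3 h1.card_le
        have hcard' : Nat.card D = p ^ (Nat.card (Subgroup.centralizer
            ({y} : Set (Subgroup.normalizer (D : Set G))))).factorization p := by
          rw [← hQcard, ← h4]
          exact (Nat.card_congr (Subgroup.subgroupOfEquivOfLe hDN).toEquiv).symm
        have hS := exists_sylow_centralizer_of_normalizer D hD y hyc hcard'
        have h5 := centralChar_sub_centralChar_memLocalIdeal hM D hD hind₁ hξ₁ hχ y hS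
        have h6 := centralChar_sub_centralChar_memLocalIdeal hM D hD hind₂ hξ₂ hχ y hS
        have h7 := Helper77.memLocalIdeal_sub hMm h6 h5
        rwa [sub_sub_sub_cancel_right] at h7
    · -- both central characters vanish modulo the ideal
      have hy' : y ∉ Subgroup.centralizer
          ((D.subgroupOf (Subgroup.normalizer (D : Set G)) : Subgroup _) : Set _) := by
        intro h3
        apply hyc
        rw [Subgroup.mem_centralizer_iff] at h3 ⊢
        intro u hu
        have h4 := h3 ⟨u, hDN hu⟩ (by
          show (⟨u, hDN hu⟩ : Subgroup.normalizer (D : Set G)) ∈ D.subgroupOf _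
          rw [Subgroup.mem_subgroupOf]; exact hu)
        exact congrArg Subtype.val h4
      have h1 := centralChar_memLocalIdeal_of_not_mem_centralizer hM _ hD' ξ₁ y hy'
      have h2 := centralChar_memLocalIdeal_of_not_mem_centralizer hM _ hD' ξ₂ y hy'
      exact Helper77.memLocalIdeal_mul hMm (he₁S y) (Helper77.memLocalIdeal_sub hMm h2 h1)
  rw [Helper77.omega_blockCoeff_of_mem hξ₁] at key
  have hξ₂b₁ : ξ₂ ∈ b₁ := by
    by_contra h
    rw [Helper77.omega_blockCoeff_of_not_mem h, zero_sub] at key
    exact Helper77.not_memLocalIdeal_one hMm (by simpa using Helper77.memLocalIdeal_neg key)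
  rw [eq_blockOf_of_mem hMm hb₂ hξ₂, eq_blockOf_of_mem hMm hb₁ hξ₂b₁]

end Cfsg.Agent.Helper16
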