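import Cfsg.Prelude.Def_Blocks
import Mathlib.Algebra.BigOperators.Field

set_option autoImplicit false
open Cfsg

namespace Cfsg.Agent.Helper16

/-- Summing `F` over the conjugates `x⁻¹ g x`, `x` running over the group, counts each
conjugate of `g` exactly `|C_G(g)|` times. -/
theorem sum_conj_eq {G : Type*} [Group G] [Fintype G] (g : G) (F : G → ℂ)
    [DecidablePred (fun k : G => IsConj g k)] :
    ∑ x : G, F (x⁻¹ * g * x) =
      (Nat.card (Subgroup.centralizer ({g} : Set G)) : ℂ) *
        ∑ k ∈ Finset.univ.filter (fun k : G => IsConj g k), F k := by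
  classical
  rw [Finset.sum_comp F (fun x : G => x⁻¹ * g * x)]
  have himg : Finset.univ.image (fun x : G => x⁻¹ * g * x)
      = Finset.univ.filter (fun k : G => IsConj g k) := by
    ext k
    simp only [Finset.mem_image, Finset.mem_univ, true_and, Finset.mem_filter, isConj_iff]
    constructor
    · rintro ⟨x, rfl⟩
      exact ⟨x⁻¹, by simp⟩
    · rintro ⟨c, rfl⟩
      exact ⟨c⁻¹, by simp⟩
  rw [himg, Finset.mul_sum]
  refine Finset.sum_congr rfl ?_
  intro k hk
  rw [Finset.mem_filter, isConj_iff] at hk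
  obtain ⟨-, c, rfl⟩ := hk
  have hcard : (Finset.univ.filter (fun a : G => a⁻¹ * g * a = c * g * c⁻¹)).card
      = Nat.card (Subgroup.centralizer ({g} : Set G)) := by
    rw [← Fintype.card_subtype, ← Nat.card_eq_fintype_card]
    refine Nat.card_congr ⟨fun a => ⟨a.1 * c, ?_⟩, fun z => ⟨z.1 * c⁻¹, ?_⟩, ?_, ?_⟩
    · rw [Subgroup.mem_centralizer_iff]
      intro h hh
      rw [Set.mem_singleton_iff] at hh
      subst hh
      have := a.2
      calc h * (a.1 * c) = a.1 * (a.1⁻¹ * h * a.1) * c := by group
        _ = a.1 * (c * h * c⁻¹) * c := by rw [this]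
        _ = a.1 * c * h := by group
    · have := z.2
      rw [Subgroup.mem_centralizer_iff] at this
      have h2 := this g (Set.mem_singleton g)
      calc (z.1 * c⁻¹)⁻¹ * g * (z.1 * c⁻¹) = c * z.1⁻¹ * (g * z.1) * c⁻¹ := by group
        _ = c * z.1⁻¹ * (z.1 * g) * c⁻¹ := by rw [h2]
        _ = c * g * c⁻¹ := by group
    · intro a
      simp
    · intro z
      simp
  rw [hcard, nsmul_eq_mul]

theorem inducedCentralChar_eq_sum {G : Type*} [Group G] [Fintype G] (H : Subgroup G)
    (ξ : H → ℂ) (g : G) [DecidablePred (fun k : G => IsConj g k)] :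
    Cfsg.inducedCentralChar H ξ g =
      (∑ k ∈ Finset.univ.filter (fun k : G => IsConj g k), Cfsg.extendByZero H ξ k) / ξ 1 := by
  classical
  unfold Cfsg.inducedCentralChar
  rw [finsum_mem_eq_finite_toFinset_sum _ (Set.toFinite _), Finset.sum_div]
  symm
  have h1 : ∑ k ∈ Finset.univ.filter (fun k : G => IsConj g k), Cfsg.extendByZero H ξ k / ξ 1
      = ∑ k ∈ (Finset.univ.filter (fun k : G => IsConj g k)).filter (fun k => k ∈ H),
          Cfsg.extendByZero H ξ k / ξ 1 := by
    symm
    apply Finset.sum_filter_of_ne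
    intro k _ hk
    by_contra hkH
    apply hk
    have : Cfsg.extendByZero H ξ k = 0 := by
      unfold Cfsg.extendByZero
      rw [Function.extend_apply']
      · rfl
      · rintro ⟨a, rfl⟩
        exact hkH a.2
    rw [this, zero_div]
  rw [h1]
  refine Finset.sum_bij' (fun k hk => (⟨k, (Finset.mem_filter.mp hk).2⟩ : H))
    (fun h _ => (h : G)) ?_ ?_ ?_ ?_ ?_
  · intro k hk
    simp only [Finset.mem_filter, Finset.mem_univ, true_and] at hk
    simpa using hk.1
  · intro h hh
    have hh' : IsConj g (h : G) := by simpa using hh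
    simp only [Finset.mem_filter, Finset.mem_univ, true_and]
    exact ⟨hh', h.2⟩
  · intro k hk
    rfl
  · intro h hh
    rfl
  · intro k hk
    have hkH : k ∈ H := (Finset.mem_filter.mp hk).2
    have : Cfsg.extendByZero H ξ k = ξ ⟨k, hkH⟩ := by
      unfold Cfsg.extendByZero
      exact Subtype.val_injective.extend_apply ξ 0 ⟨k, hkH⟩
    rw [this]

/-- The induced central character of a function on a subgroup is the central character of the
induced function. -/
theorem inducedCentralChar_eq_centralChar_indFun {G : Type*} [Group G] [Fintype G]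
    (H : Subgroup G) (ξ : H → ℂ) (g : G) :
    Cfsg.inducedCentralChar H ξ g = Cfsg.centralChar (Cfsg.indFun H ξ) g := by
  classical
  rw [inducedCentralChar_eq_sum]
  unfold Cfsg.centralChar Cfsg.indFun
  rw [sum_conj_eq g (Cfsg.extendByZero H ξ), sum_conj_eq 1 (Cfsg.extendByZero H ξ)]
  have h1 : Finset.univ.filter (fun k : G => IsConj 1 k) = {1} := by
    ext k
    simp only [Finset.mem_filter, Finset.mem_univ, true_and, Finset.mem_singleton]
    constructor
    · intro h
      exact (isConj_one_right.mp h)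
    · rintro rfl
      exact IsConj.refl 1
  rw [h1, Finset.sum_singleton]
  have h2 : Cfsg.extendByZero H ξ 1 = ξ 1 := by
    unfold Cfsg.extendByZero
    exact Subtype.val_injective.extend_apply ξ 0 (1 : H)
  rw [h2]
  have h3 : Subgroup.centralizer ({1} : Set G) = ⊤ := by
    ext x
    simp [Subgroup.mem_centralizer_iff]
  rw [h3]
  set S := ∑ k ∈ Finset.univ.filter (fun k : G => IsConj g k), Cfsg.extendByZero H ξ k
  have hcard : ((Subgroup.centralizer ({g} : Set G)).index : ℂ)
      * (Nat.card (Subgroup.centralizer ({g} : Set G)) : ℂ) = (Nat.card G : ℂ) := by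
    rw [← Nat.cast_mul, mul_comm, Subgroup.card_mul_index]
  have htop : (Nat.card (⊤ : Subgroup G) : ℂ) = (Nat.card G : ℂ) := by
    rw [Subgroup.card_top]
  rw [htop]
  have hH : (Nat.card H : ℂ) ≠ 0 := by
    exact_mod_cast Nat.card_pos.ne'
  have hG : (Nat.card G : ℂ) ≠ 0 := by
    exact_mod_cast Nat.card_pos.ne'
  have e1 : ((Subgroup.centralizer ({g} : Set G)).index : ℂ)
      * ((Nat.card H : ℂ)⁻¹ * ((Nat.card (Subgroup.centralizer ({g} : Set G)) : ℂ) * S))
      = ((Nat.card H : ℂ)⁻¹ * (Nat.card G : ℂ)) * S := by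
    rw [← hcard]; ring
  rw [e1, ← mul_assoc, mul_div_mul_left]
  exact mul_ne_zero (inv_ne_zero hH) hG

end Cfsg.Agent.Helper16
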