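import Cfsg.Prelude.Def_Blocks
import Mathlib.Algebra.BigOperators.Field

set_option autoImplicit false
open Cfsg

namespace Cfsg.Agent.Helper16

theorem one_notMem_of_isMaximal {M : Ideal Cfsg.AlgInt} (hM : M.IsMaximal) :
    (1 : Cfsg.AlgInt) ∉ M :=
  fun h => hM.ne_top ((Ideal.eq_top_iff_one M).mpr h)

theorem coe_ne_zero_of_notMem {M : Ideal Cfsg.AlgInt} {b : Cfsg.AlgInt} (hb : b ∉ M) :
    (b : ℂ) ≠ 0 := by
  intro h
  apply hb
  have : b = 0 := Subtype.ext h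
  rw [this]
  exact M.zero_mem

theorem memLocalIdeal_zero {M : Ideal Cfsg.AlgInt} (hM : M.IsMaximal) :
    Cfsg.MemLocalIdeal M 0 :=
  ⟨0, 1, M.zero_mem, one_notMem_of_isMaximal hM, by simp⟩

theorem memLocalIdeal_add {M : Ideal Cfsg.AlgInt} (hM : M.IsMaximal) {z w : ℂ}
    (hz : Cfsg.MemLocalIdeal M z) (hw : Cfsg.MemLocalIdeal M w) :
    Cfsg.MemLocalIdeal M (z + w) := by
  obtain ⟨a, b, ha, hb, rfl⟩ := hz
  obtain ⟨a', b', ha', hb', rfl⟩ := hw
  refine ⟨a * b' + a' * b, b * b', M.add_mem (M.mul_mem_right _ ha) (M.mul_mem_right _ ha'),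
    ?_, ?_⟩
  · intro h
    rcases hM.isPrime.mem_or_mem h with h | h
    · exact hb h
    · exact hb' h
  · have h1 := coe_ne_zero_of_notMem hb
    have h2 := coe_ne_zero_of_notMem hb'
    push_cast
    field_simp

theorem memLocalIdeal_neg {M : Ideal Cfsg.AlgInt} {z : ℂ}
    (hz : Cfsg.MemLocalIdeal M z) : Cfsg.MemLocalIdeal M (-z) := by
  obtain ⟨a, b, ha, hb, rfl⟩ := hz
  refine ⟨-a, b, M.neg_mem ha, hb, ?_⟩
  push_cast
  ring

theorem memLocalIdeal_sub {M : Ideal Cfsg.AlgInt} (hM : M.IsMaximal) {z w : ℂ}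
    (hz : Cfsg.MemLocalIdeal M z) (hw : Cfsg.MemLocalIdeal M w) :
    Cfsg.MemLocalIdeal M (z - w) := by
  rw [sub_eq_add_neg]
  exact memLocalIdeal_add hM hz (memLocalIdeal_neg hw)

theorem memLocalIdeal_sum {M : Ideal Cfsg.AlgInt} (hM : M.IsMaximal) {ι : Type*}
    (s : Finset ι) (f : ι → ℂ) (h : ∀ i ∈ s, Cfsg.MemLocalIdeal M (f i)) :
    Cfsg.MemLocalIdeal M (∑ i ∈ s, f i) := by
  classical
  induction s using Finset.induction_on with
  | empty => simpa using memLocalIdeal_zero hM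
  | insert a s ha ih =>
    rw [Finset.sum_insert ha]
    exact memLocalIdeal_add hM (h a (Finset.mem_insert_self a s))
      (ih (fun i hi => h i (Finset.mem_insert_of_mem hi)))

end Cfsg.Agent.Helper16
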