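import Cfsg.Agent.Helper16.S3Core
import Cfsg.Agent.Helper14.S3TS
import Cfsg.Agent.Helper14.S3SC
import Cfsg.Agent.Helper39.S3N3
import Cfsg.Agent.Helper51.S3IN
import Cfsg.Agent.Helper77.BlockIdem
import Cfsg.Agent.Helper79.Quotient
import Cfsg.Agent.Helper3.CharBasic

/-!
# S3805 glue, part 1: the norm-3 decomposition of `cfC` and the class-multiplication equation
-/

set_option autoImplicit false

namespace Cfsg.Agent.Helper16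

open Cfsg DihedralGroup
open scoped ComplexConjugate

theorem nm_card_E2 : (Finset.univ.filter (fun m : NM => m.2 ^ 2 ≠ 1)).card = 12 := by decide

section

variable {G : Type*} [Group G] [Fintype G] {φ : NM →* G}

theorem S3Cfg.cfC_inner_self (h : S3Cfg φ) : classInner (cfC φ) (cfC φ) = 3 := by
  rw [Cfsg.Agent.Helper14.s3_cfC_inner h _ (cfC_isClassFunction φ)]
  have : ∀ m ∈ Finset.univ.filter (fun m : NM => m.2 ^ 2 ≠ 1), conj (cfC φ (φ m)) = 3 := by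
    intro m hm
    rw [Finset.mem_filter] at hm
    rw [h.cfC_apply, if_pos hm.2]
    exact Complex.conj_ofReal 3
  rw [Finset.sum_congr rfl this, Finset.sum_const, nm_card_E2]
  norm_num

theorem S3Cfg.cfC_inner_one (h : S3Cfg φ) : classInner (cfC φ) (fun _ => (1 : ℂ)) = 1 := by
  rw [Cfsg.Agent.Helper14.s3_cfC_inner h _ (fun _ _ => rfl)]
  simp only [map_one]
  rw [Finset.sum_const, nm_card_E2]
  norm_num

theorem S3Cfg.cfC_inner_int (h : S3Cfg φ) (X : IrrCharacter G) :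
    ∃ k : ℤ, classInner (cfC φ) (X : G → ℂ) = (k : ℂ) := by
  have hX : IsCharacter G (X : G → ℂ) := Helper79.irr_isCharacter X
  rw [Cfsg.Agent.Helper14.s3_cfC_inner h _ (Helper79.isCharacter_isClassFunction hX)]
  obtain ⟨k, hk⟩ := Cfsg.Agent.Helper51.s3_sum_int φ hX
  refine ⟨k, ?_⟩
  rw [← map_sum, hk, map_mul]
  have h12 : (starRingEnd ℂ) (12 : ℂ) = 12 := Complex.conj_ofReal 12
  have hk' : (starRingEnd ℂ) (k : ℂ) = k := by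
    have := Complex.conj_ofReal (k : ℝ)
    simpa using this
  rw [h12, hk']
  ring

/-- The decomposition `cfC φ = 1 + ε₁ X₁ + ε₂ X₂`. -/
theorem S3Cfg.cfC_decomp (h : S3Cfg φ) :
    ∃ (X₁ X₂ : IrrCharacter G) (ε₁ ε₂ : ℤ), X₁ ≠ X₂ ∧
      (X₁ : G → ℂ) ≠ (fun _ => (1 : ℂ)) ∧ (X₂ : G → ℂ) ≠ (fun _ => (1 : ℂ)) ∧
      (ε₁ = 1 ∨ ε₁ = -1) ∧ (ε₂ = 1 ∨ ε₂ = -1) ∧
      ∀ g, cfC φ g = 1 + (ε₁ : ℂ) * (X₁ : G → ℂ) g + (ε₂ : ℂ) * (X₂ : G → ℂ) g :=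
  Cfsg.Agent.Helper39.s3_norm_three (cfC φ) (cfC_isClassFunction φ) h.cfC_inner_self h.cfC_inner_one
    h.cfC_inner_int

/-- Class multiplication, character side. -/
theorem irr_double_sum (χ : IrrCharacter G) (u v : G) :
    ∑ x : G, ∑ y : G, (χ : G → ℂ) (x * u * x⁻¹ * (y * v * y⁻¹)) =
      (Nat.card G : ℂ) ^ 2 * (χ : G → ℂ) u * (χ : G → ℂ) v / (χ : G → ℂ) 1 := by
  have hχ : IsCharacter G (χ : G → ℂ) := Helper79.irr_isCharacter χ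
  rw [Finset.sum_comm]
  have h1 : ∀ y : G, ∑ x : G, (χ : G → ℂ) (x * u * x⁻¹ * (y * v * y⁻¹)) =
      (Nat.card G : ℂ) * (χ : G → ℂ) u * (χ : G → ℂ) v / (χ : G → ℂ) 1 := by
    intro y
    have h2 := Helper77.sum_irr_conj_mul χ u (y * v * y⁻¹)
    rw [Helper79.isCharacter_conj_eq hχ] at h2
    rw [← h2]
    refine Fintype.sum_equiv (Equiv.inv G) _ _ ?_
    intro x
    simp
  rw [Finset.sum_congr rfl (fun y _ => h1 y), Finset.sum_const, Finset.card_univ, nsmul_eq_mul,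
    ← Nat.card_eq_fintype_card]
  ring

/-- The class-multiplication equation for `cfC φ = 1 + ε₁ X₁ + ε₂ X₂` and an element `u` of order
at most 2. -/
theorem S3Cfg.star_eq (h : S3Cfg φ) (X₁ X₂ : IrrCharacter G) (e₁ e₂ : ℂ)
    (hdec : ∀ g, cfC φ g = 1 + e₁ * (X₁ : G → ℂ) g + e₂ * (X₂ : G → ℂ) g)
    (u : G) (hu : u ^ 2 = 1) :
    (Nat.card G : ℂ) ^ 2 * (1 + e₁ * (X₁ : G → ℂ) u ^ 2 / (X₁ : G → ℂ) 1 +
        e₂ * (X₂ : G → ℂ) u ^ 2 / (X₂ : G → ℂ) 1) =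
      (Nat.card G : ℂ) / 12 * (Nat.card (Subgroup.centralizer ({u} : Set G)) : ℂ) ^ 2 *
        (Nat.card {p : NM × NM // IsConj u (φ p.1) ∧ IsConj u (φ p.2) ∧
          (p.1 * p.2).2 ^ 2 ≠ 1} : ℂ) := by
  rw [← Cfsg.Agent.Helper14.s3_star_count h (fun f hf => Cfsg.Agent.Helper14.s3_cfC_inner h f hf) u hu]
  simp only [hdec]
  simp only [Finset.sum_add_distrib, ← Finset.mul_sum]
  rw [irr_double_sum X₁ u u, irr_double_sum X₂ u u]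
  simp only [Finset.sum_const, Finset.card_univ, nsmul_eq_mul, mul_one]
  rw [← Nat.card_eq_fintype_card]
  ring

/-- If no two conjugates of `u` in `N` have their product in `E`, then `u` lies in the kernels of
`X₁` and `X₂`. -/
theorem S3Cfg.ker_of_count_zero (h : S3Cfg φ) (X₁ X₂ : IrrCharacter G) (ε₁ ε₂ : ℤ)
    (hε₁ : ε₁ = 1 ∨ ε₁ = -1) (hε₂ : ε₂ = 1 ∨ ε₂ = -1)
    (hdec : ∀ g, cfC φ g = 1 + (ε₁ : ℂ) * (X₁ : G → ℂ) g + (ε₂ : ℂ) * (X₂ : G → ℂ) g)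
    (u : G) (hu : u ^ 2 = 1)
    (hcount : ∀ p : NM × NM, IsConj u (φ p.1) → IsConj u (φ p.2) → (p.1 * p.2).2 ^ 2 = 1) :
    (X₁ : G → ℂ) u = (X₁ : G → ℂ) 1 ∧ (X₂ : G → ℂ) u = (X₂ : G → ℂ) 1 := by
  have hstar := h.star_eq X₁ X₂ (ε₁ : ℂ) (ε₂ : ℂ) hdec u hu
  have hempty : IsEmpty {p : NM × NM // IsConj u (φ p.1) ∧ IsConj u (φ p.2) ∧
      (p.1 * p.2).2 ^ 2 ≠ 1} := ⟨fun p => p.2.2.2 (hcount p.1 p.2.1 p.2.2.1)⟩
  rw [@Nat.card_of_isEmpty _ hempty, Nat.cast_zero, mul_zero] at hstar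
  have hG : (Nat.card G : ℂ) ≠ 0 := by exact_mod_cast Nat.card_pos.ne'
  have h0 : 1 + (ε₁ : ℂ) * (X₁ : G → ℂ) u ^ 2 / (X₁ : G → ℂ) 1 +
        (ε₂ : ℂ) * (X₂ : G → ℂ) u ^ 2 / (X₂ : G → ℂ) 1 = 0 := by
    rcases mul_eq_zero.mp hstar with h' | h'
    · exact absurd h' (pow_ne_zero 2 hG)
    · exact h'
  have hd1 : (X₁ : G → ℂ) 1 ≠ 0 := Helper3.irr_apply_one_ne_zero X₁.2
  have hd2 : (X₂ : G → ℂ) 1 ≠ 0 := Helper3.irr_apply_one_ne_zero X₂.2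
  have hone : (1 : ℂ) + (ε₁ : ℂ) * (X₁ : G → ℂ) 1 + (ε₂ : ℂ) * (X₂ : G → ℂ) 1 = 0 := by
    rw [← hdec 1]; exact h.cfC_eq_zero_of_sq (one_pow 2)
  have hu0 : (1 : ℂ) + (ε₁ : ℂ) * (X₁ : G → ℂ) u + (ε₂ : ℂ) * (X₂ : G → ℂ) u = 0 := by
    rw [← hdec u]; exact h.cfC_eq_zero_of_sq hu
  have he1 : (ε₁ : ℂ) * (ε₁ : ℂ) = 1 := by
    rcases hε₁ with h' | h' <;> rw [h'] <;> norm_num
  have he2 : (ε₂ : ℂ) * (ε₂ : ℂ) = 1 := by
    rcases hε₂ with h' | h' <;> rw [h'] <;> norm_num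
  -- x = ε₁ d₁, P = ε₁ X₁(u), y = ε₂ d₂, Q = ε₂ X₂(u)
  set x : ℂ := (ε₁ : ℂ) * (X₁ : G → ℂ) 1 with hx
  set P : ℂ := (ε₁ : ℂ) * (X₁ : G → ℂ) u with hP
  set y : ℂ := (ε₂ : ℂ) * (X₂ : G → ℂ) 1 with hy
  set Q : ℂ := (ε₂ : ℂ) * (X₂ : G → ℂ) u with hQ
  have he1' : (ε₁ : ℂ) ≠ 0 := fun h' => by rw [h'] at he1; simp at he1
  have he2' : (ε₂ : ℂ) ≠ 0 := fun h' => by rw [h'] at he2; simp at he2
  have hx0 : x ≠ 0 := mul_ne_zero he1' hd1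
  have hy0 : y ≠ 0 := mul_ne_zero he2' hd2
  have h1 : (ε₁ : ℂ) * (X₁ : G → ℂ) u ^ 2 / (X₁ : G → ℂ) 1 = P ^ 2 / x := by
    rw [hP, hx]
    field_simp
  have h2 : (ε₂ : ℂ) * (X₂ : G → ℂ) u ^ 2 / (X₂ : G → ℂ) 1 = Q ^ 2 / y := by
    rw [hQ, hy]
    field_simp
  rw [h1, h2] at h0
  have hy' : y = -1 - x := by linear_combination hone
  have hQ' : Q = -1 - P := by linear_combination hu0
  have h3 : (x - P) ^ 2 = 0 := by
    have h4 : x * y + P ^ 2 * y + Q ^ 2 * x = 0 := by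
      have := h0
      field_simp at this
      linear_combination this
    rw [hy', hQ'] at h4
    linear_combination -h4
  have h5 : x = P := by
    have := pow_eq_zero_iff (n := 2) (by norm_num) |>.mp h3
    linear_combination this
  have h6 : y = Q := by rw [hy', hQ', h5]
  constructor
  · have : (ε₁ : ℂ) * (X₁ : G → ℂ) u = (ε₁ : ℂ) * (X₁ : G → ℂ) 1 := h5.symm
    exact mul_left_cancel₀ he1' this
  · have : (ε₂ : ℂ) * (X₂ : G → ℂ) u = (ε₂ : ℂ) * (X₂ : G → ℂ) 1 := h6.symm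
    exact mul_left_cancel₀ he2' this

end

end Cfsg.Agent.Helper16
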