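import Cfsg.Agent.Helper16.S3Glue1
import Cfsg.Agent.Helper81.S3IX
import Cfsg.Agent.Helper91.S3Fpf

/-!
# S3805 glue, part 2: fusion of the involutions of `N` and the case where `ab` is fused neither
to `a` nor to `b`
-/

set_option autoImplicit false

namespace Cfsg.Agent.Helper16

open Cfsg DihedralGroup
open scoped ComplexConjugate

set_option maxRecDepth 1000000 in
/-- The three classes of involutions of the model. -/
theorem nm_invol_class : ∀ n : NM, n ^ 2 = 1 → n ≠ 1 →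
    (n.2 = 1 → ∃ k : NM, k * (sr 0, 1) * k⁻¹ = n) ∧
    (n.1 = 1 → ∃ k : NM, k * (1, sr 0) * k⁻¹ = n) ∧
    (n.1 ≠ 1 → n.2 ≠ 1 → ∃ k : NM, k * (sr 0, sr 0) * k⁻¹ = n) := by decide +kernel

theorem nm_r1_eq : ((r 1, 1) : NM) = (sr 0, 1) * ((r 1, 1) * (sr 0, 1) * (r 1, 1)⁻¹) := by decide

theorem nm_t2_eq : ∀ i j : ZMod 3, j ≠ 0 →
    (((r 1, 1) : NM) ^ (3 - i.val) * (r i, r j)) ^ j.val = (1, r 1) := by decide

theorem nm_card : Nat.card NM = 36 := by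
  rw [Nat.card_eq_fintype_card]; decide

section

variable {G : Type*} [Group G] {φ : NM →* G}

theorem isConj_map_of_model (φ : NM →* G) {n n' : NM} (k : NM) (hk : k * n * k⁻¹ = n') :
    IsConj (φ n) (φ n') := by
  rw [isConj_iff]
  exact ⟨φ k, by rw [← hk]; simp⟩

theorem S3Cfg.sq_of_isConj (h : S3Cfg φ) {u : G} (hu : u ^ 2 = 1) {n : NM}
    (hn : IsConj u (φ n)) : n ^ 2 = 1 := by
  obtain ⟨c, hc⟩ := isConj_iff.mp hn
  apply h.inj
  rw [map_pow, map_one, ← hc, conj_pow, hu]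
  group

theorem S3Cfg.ne_one_of_isConj (_h : S3Cfg φ) {u : G} (hu : u ≠ 1) {n : NM}
    (hn : IsConj u (φ n)) : n ≠ 1 := by
  rintro rfl
  obtain ⟨c, hc⟩ := isConj_iff.mp hn
  apply hu
  rw [map_one] at hc
  have : u = c⁻¹ * (c * u * c⁻¹) * c := by group
  rw [this, hc]; group

theorem S3Cfg.a_sq (φ : NM →* G) : φ (sr 0, 1) ^ 2 = 1 := by
  rw [← map_pow]
  have : ((sr 0, 1) : NM) ^ 2 = 1 := by decide
  rw [this, map_one]

theorem S3Cfg.a_ne_one (h : S3Cfg φ) : φ (sr 0, 1) ≠ 1 := by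
  intro h1
  have : ((sr 0, 1) : NM) = 1 := h.inj (by rw [h1, map_one])
  revert this
  decide

theorem S3Cfg.b_sq (φ : NM →* G) : φ (1, sr 0) ^ 2 = 1 := by
  rw [← map_pow]
  have : ((1, sr 0) : NM) ^ 2 = 1 := by decide
  rw [this, map_one]

theorem S3Cfg.b_ne_one (h : S3Cfg φ) : φ (1, sr 0) ≠ 1 := by
  intro h1
  have : ((1, sr 0) : NM) = 1 := h.inj (by rw [h1, map_one])
  revert this
  decide

/-- If `a` is fused neither to `b` nor to `ab`, its conjugates in `N` are of type `A`. -/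
theorem S3Cfg.typeA_of_not_isConj (h : S3Cfg φ)
    (hab : ¬ IsConj (φ (sr 0, 1)) (φ (1, sr 0))) (had : ¬ IsConj (φ (sr 0, 1)) (φ (sr 0, sr 0)))
    (n : NM) (hn : IsConj (φ (sr 0, 1)) (φ n)) : n.2 = 1 := by
  have h2 := h.sq_of_isConj (S3Cfg.a_sq φ) hn
  have h1 := h.ne_one_of_isConj h.a_ne_one hn
  obtain ⟨-, hB, hD⟩ := nm_invol_class n h2 h1
  by_contra hn2
  by_cases hn1 : n.1 = 1
  · obtain ⟨k, hk⟩ := hB hn1
    exact hab (hn.trans (isConj_map_of_model φ k hk).symm)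
  · obtain ⟨k, hk⟩ := hD hn1 hn2
    exact had (hn.trans (isConj_map_of_model φ k hk).symm)

/-- If `b` is fused neither to `a` nor to `ab`, its conjugates in `N` are of type `B`. -/
theorem S3Cfg.typeB_of_not_isConj (h : S3Cfg φ)
    (hab : ¬ IsConj (φ (sr 0, 1)) (φ (1, sr 0))) (hbd : ¬ IsConj (φ (1, sr 0)) (φ (sr 0, sr 0)))
    (n : NM) (hn : IsConj (φ (1, sr 0)) (φ n)) : n.1 = 1 := by
  have h2 := h.sq_of_isConj (S3Cfg.b_sq φ) hn
  have h1 := h.ne_one_of_isConj h.b_ne_one hn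
  obtain ⟨hA, -, hD⟩ := nm_invol_class n h2 h1
  by_contra hn1
  by_cases hn2 : n.2 = 1
  · obtain ⟨k, hk⟩ := hA hn2
    exact hab ((hn.trans (isConj_map_of_model φ k hk).symm).symm)
  · obtain ⟨k, hk⟩ := hD hn1 hn2
    exact hbd (hn.trans (isConj_map_of_model φ k hk).symm)

end

section

variable {G : Type*} [Group G] [Fintype G] {φ : NM →* G}

/-- One half of the case `a^G ∩ N` of type `A`: a normal subgroup of index at most 6 meeting
`T` inside `⟨t₁⟩`. -/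
theorem S3Cfg.case1_half (h : S3Cfg φ)
    (hA : ∀ n : NM, IsConj (φ (sr 0, 1)) (φ n) → n.2 = 1) :
    ∃ M : Subgroup G, M.Normal ∧ M.index ≤ 6 ∧ ∀ i j : ZMod 3, φ (r i, r j) ∈ M → j = 0 := by
  obtain ⟨X₁, X₂, ε₁, ε₂, -, -, -, hε₁, hε₂, hdec⟩ := h.cfC_decomp
  have hker := h.ker_of_count_zero X₁ X₂ ε₁ ε₂ hε₁ hε₂ hdec (φ (sr 0, 1)) (S3Cfg.a_sq φ) (by
    intro p hp1 hp2
    have e1 := hA p.1 hp1
    have e2 := hA p.2 hp2
    show (p.1.2 * p.2.2) ^ 2 = 1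
    rw [e1, e2]; simp)
  have hX₁ : IsCharacter G (X₁ : G → ℂ) := Helper79.irr_isCharacter X₁
  have hX₂ : IsCharacter G (X₂ : G → ℂ) := Helper79.irr_isCharacter X₂
  have n1 : (Helper79.charKer hX₁).Normal := Helper79.charKer_normal hX₁
  have n2 : (Helper79.charKer hX₂).Normal := Helper79.charKer_normal hX₂
  have hMn : (Helper79.charKer hX₁ ⊓ Helper79.charKer hX₂).Normal := inferInstance
  have ha : φ (sr 0, 1) ∈ Helper79.charKer hX₁ ⊓ Helper79.charKer hX₂ :=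
    ⟨hker.1, hker.2⟩
  have ht₂ : φ (1, r 1) ∉ Helper79.charKer hX₁ ⊓ Helper79.charKer hX₂ := by
    rintro ⟨k1, k2⟩
    have e1 : (X₁ : G → ℂ) (φ (1, r 1)) = (X₁ : G → ℂ) 1 := k1
    have e2 : (X₂ : G → ℂ) (φ (1, r 1)) = (X₂ : G → ℂ) 1 := k2
    have e3 := hdec (φ (1, r 1))
    rw [e1, e2, ← hdec 1, h.cfC_eq_zero_of_sq (one_pow 2), h.cfC_apply, if_pos (by decide)] at e3
    norm_num at e3
  refine ⟨_, hMn, ?_, ?_⟩
  · exact Cfsg.Agent.Helper81.s3_index_le_six h.swap _ ha ht₂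
  · intro i j hij
    by_contra hj
    apply ht₂
    have ht₁ : φ (r 1, 1) ∈ Helper79.charKer hX₁ ⊓ Helper79.charKer hX₂ := by
      rw [nm_r1_eq, map_mul, map_mul, map_mul, map_inv]
      exact Subgroup.mul_mem _ ha (hMn.conj_mem _ ha _)
    rw [← nm_t2_eq i j hj, map_pow, map_mul, map_pow]
    exact Subgroup.pow_mem _ (Subgroup.mul_mem _ (Subgroup.pow_mem _ ht₁ _) hij) _

/-- The case where `a^G ∩ N` is of type `A` and `b^G ∩ N` of type `B`. -/
theorem S3Cfg.case1 (h : S3Cfg φ)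
    (hA : ∀ n : NM, IsConj (φ (sr 0, 1)) (φ n) → n.2 = 1)
    (hB : ∀ n : NM, IsConj (φ (1, sr 0)) (φ n) → n.1 = 1) : Function.Surjective φ := by
  obtain ⟨M, hMn, hM6, hM⟩ := h.case1_half hA
  obtain ⟨M', hM'n, hM'6, hM'⟩ := h.swap.case1_half (fun n hn => hB (nmSwap n) hn)
  have := hMn
  have := hM'n
  have hK : M ⊓ M' = ⊥ := by
    apply Cfsg.Agent.Helper91.s3_normal_eq_bot h (M ⊓ M')
    intro i j hij
    exact ⟨hM' j i hij.2, hM i j hij.1⟩
  have hcard : Nat.card G ≤ Nat.card NM := by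
    rw [nm_card, ← Subgroup.index_bot, ← hK]
    calc (M ⊓ M').index ≤ M.index * M'.index := Subgroup.index_inf_le
      _ ≤ 6 * 6 := Nat.mul_le_mul hM6 hM'6
  exact (h.inj.bijective_of_nat_card_le hcard).2

end

end Cfsg.Agent.Helper16
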