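import Cfsg.Agent.Helper16.S3Glue2
import Cfsg.Agent.Helper80.LinChar
import Cfsg.Agent.Helper39.S3EV
import Cfsg.Agent.Helper39.S3DB
import Cfsg.Agent.Helper10.S3Pell
import Cfsg.Agent.Helper66.S3TW
import Cfsg.Agent.Helper31.S3C3E
import Cfsg.Agent.Helper78.S3FU

/-!
# S3805 glue, part 3: the case where `ab` is fused to `a`
-/

set_option autoImplicit false

namespace Cfsg.Agent.Helper16

open Cfsg DihedralGroup
open scoped ComplexConjugate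

set_option maxRecDepth 1000000 in
theorem nm_count54 : Nat.card {p : NM × NM // (p.1 ^ 2 = 1 ∧ p.1.1 ≠ 1) ∧
    (p.2 ^ 2 = 1 ∧ p.2.1 ≠ 1) ∧ (p.1 * p.2).2 ^ 2 ≠ 1} = 54 := by
  rw [Nat.card_eq_fintype_card, Fintype.card_subtype]
  decide +kernel

set_option maxRecDepth 1000000 in
theorem nm_count96 : Nat.card {p : NM × NM // ((nmSwap p.1) ^ 2 = 1 ∧ (nmSwap p.1).1 ≠ 1) ∧
    ((nmSwap p.2) ^ 2 = 1 ∧ (nmSwap p.2).1 ≠ 1) ∧ (p.1 * p.2).2 ^ 2 ≠ 1} = 96 := by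
  rw [Nat.card_eq_fintype_card, Fintype.card_subtype]
  decide +kernel

section

variable {G : Type*} [Group G] [Fintype G] {φ : NM →* G}

omit [Fintype G] in
/-- If `a ∼ ab` (and `a ≁ b`), the conjugates of `a` in `N` are the involutions of types
`A` and `D`. -/
theorem S3Cfg.typeAD_iff (h : S3Cfg φ)
    (hab : ¬ IsConj (φ (sr 0, 1)) (φ (1, sr 0))) (had : IsConj (φ (sr 0, 1)) (φ (sr 0, sr 0)))
    (n : NM) : IsConj (φ (sr 0, 1)) (φ n) ↔ (n ^ 2 = 1 ∧ n.1 ≠ 1) := by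
  constructor
  · intro hn
    have h2 := h.sq_of_isConj (S3Cfg.a_sq φ) hn
    have h1 := h.ne_one_of_isConj h.a_ne_one hn
    refine ⟨h2, fun hn1 => ?_⟩
    obtain ⟨k, hk⟩ := (nm_invol_class n h2 h1).2.1 hn1
    exact hab (hn.trans (isConj_map_of_model φ k hk).symm)
  · rintro ⟨h2, hn1⟩
    have h1 : n ≠ 1 := by
      rintro rfl
      exact hn1 rfl
    by_cases hn2 : n.2 = 1
    · obtain ⟨k, hk⟩ := (nm_invol_class n h2 h1).1 hn2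
      exact isConj_map_of_model φ k hk
    · obtain ⟨k, hk⟩ := (nm_invol_class n h2 h1).2.2 hn1 hn2
      exact had.trans (isConj_map_of_model φ k hk)

/-- The decomposition `𝓡₀ = 1 + E - R` with `E` linear and `R` of degree 2, both with `b` in
the kernel. -/
theorem S3Cfg.case3_ER (h : S3Cfg φ)
    (hB : ∀ n : NM, IsConj (φ (1, sr 0)) (φ n) → n.1 = 1) :
    ∃ E R : IrrCharacter G, (E : G → ℂ) 1 = 1 ∧ (R : G → ℂ) 1 = 2 ∧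
      (E : G → ℂ) (φ (1, sr 0)) = 1 ∧ (R : G → ℂ) (φ (1, sr 0)) = 2 ∧
      ∀ g, cfC (φ.comp nmSwap) g = 1 + (E : G → ℂ) g - (R : G → ℂ) g := by
  have h' := h.swap
  obtain ⟨X₃, X₄, ε₃, ε₄, hne, h31, h41, hε₃, hε₄, hdec⟩ := h'.cfC_decomp
  have hker := h'.ker_of_count_zero X₃ X₄ ε₃ ε₄ hε₃ hε₄ hdec (φ (1, sr 0)) (S3Cfg.b_sq φ) (by
    intro p hp1 hp2
    have e1 : p.1.2 = 1 := hB (nmSwap p.1) hp1
    have e2 : p.2.2 = 1 := hB (nmSwap p.2) hp2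
    show (p.1.2 * p.2.2) ^ 2 = 1
    rw [e1, e2]; simp)
  have hX₃ : IsCharacter G (X₃ : G → ℂ) := Helper79.irr_isCharacter X₃
  have hX₄ : IsCharacter G (X₄ : G → ℂ) := Helper79.irr_isCharacter X₄
  have n1 : (Helper79.charKer hX₃).Normal := Helper79.charKer_normal hX₃
  have n2 : (Helper79.charKer hX₄).Normal := Helper79.charKer_normal hX₄
  have hMn : (Helper79.charKer hX₃ ⊓ Helper79.charKer hX₄).Normal := inferInstance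
  have hb : φ (1, sr 0) ∈ Helper79.charKer hX₃ ⊓ Helper79.charKer hX₄ := ⟨hker.1, hker.2⟩
  have hone : (1 : ℂ) + (ε₃ : ℂ) * (X₃ : G → ℂ) 1 + (ε₄ : ℂ) * (X₄ : G → ℂ) 1 = 0 := by
    rw [← hdec 1]; exact h'.cfC_eq_zero_of_sq (one_pow 2)
  have ht₁ : φ (r 1, 1) ∉ Helper79.charKer hX₃ ⊓ Helper79.charKer hX₄ := by
    rintro ⟨k1, k2⟩
    have e1 : (X₃ : G → ℂ) (φ (r 1, 1)) = (X₃ : G → ℂ) 1 := k1
    have e2 : (X₄ : G → ℂ) (φ (r 1, 1)) = (X₄ : G → ℂ) 1 := k2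
    have e3 := hdec (φ (r 1, 1))
    have e4 : cfC (φ.comp nmSwap) (φ (r 1, 1)) = 3 := by
      have := h'.cfC_apply (1, r 1)
      rw [if_pos (by decide)] at this
      exact this
    rw [e1, e2, hone, e4] at e3
    norm_num at e3
  have h6 : (Helper79.charKer hX₃ ⊓ Helper79.charKer hX₄).index ≤ 6 :=
    Cfsg.Agent.Helper81.s3_index_le_six h _ hb ht₁
  obtain ⟨d₃, hd₃pos, hd₃⟩ := Helper3.irr_apply_one_eq_nat X₃.2
  obtain ⟨d₄, hd₄pos, hd₄⟩ := Helper3.irr_apply_one_eq_nat X₄.2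
  have hbound := Cfsg.Agent.Helper39.s3_deg_bound (Helper79.charKer hX₃ ⊓ Helper79.charKer hX₄) X₃ X₄ hne
    h31 h41 (fun x hx => hx.1) (fun x hx => hx.2) d₃ d₄ hd₃ hd₄
  have hbound' : 1 + d₃ ^ 2 + d₄ ^ 2 ≤ 6 := le_trans hbound h6
  rw [hd₃, hd₄] at hone
  have hZ : (1 : ℤ) + ε₃ * (d₃ : ℤ) + ε₄ * (d₄ : ℤ) = 0 := by exact_mod_cast hone
  have key : (ε₃ = 1 ∧ d₃ = 1 ∧ ε₄ = -1 ∧ d₄ = 2) ∨ (ε₃ = -1 ∧ d₃ = 2 ∧ ε₄ = 1 ∧ d₄ = 1) := by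
    have h3 : d₃ ≤ 2 := by nlinarith
    have h4 : d₄ ≤ 2 := by nlinarith
    interval_cases d₃ <;> interval_cases d₄ <;> rcases hε₃ with rfl | rfl <;>
      rcases hε₄ with rfl | rfl <;> simp at hZ hbound' ⊢
  rcases key with ⟨rfl, rfl, rfl, rfl⟩ | ⟨rfl, rfl, rfl, rfl⟩
  · refine ⟨X₃, X₄, ?_, ?_, ?_, ?_, ?_⟩
    · rw [hd₃]; norm_num
    · rw [hd₄]; norm_num
    · rw [hker.1, hd₃]; norm_num
    · rw [hker.2, hd₄]; norm_num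
    · intro g
      rw [hdec g]; push_cast; ring
  · refine ⟨X₄, X₃, ?_, ?_, ?_, ?_, ?_⟩
    · rw [hd₄]; norm_num
    · rw [hd₃]; norm_num
    · rw [hker.2, hd₄]; norm_num
    · rw [hker.1, hd₃]; norm_num
    · intro g
      rw [hdec g]; push_cast; ring

/-- From the two class-multiplication equations at `a`: the decomposition `𝓒₀ = 1 + X₊ - X₋`
with degrees `8 s²` and `8 s² + 1`. -/
theorem S3Cfg.case3_X (h : S3Cfg φ)
    (hA : ∀ n : NM, IsConj (φ (sr 0, 1)) (φ n) ↔ (n ^ 2 = 1 ∧ n.1 ≠ 1))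
    (hc : (Nat.card (Subgroup.centralizer ({φ (sr 0, 1)} : Set G)) : ℂ) ^ 2 =
      (Nat.card G : ℂ) / 4) :
    ∃ (X₁ X₂ : IrrCharacter G) (s : ℕ), s ≠ 0 ∧ (X₁ : G → ℂ) 1 = 8 * (s : ℂ) ^ 2 ∧
      (X₂ : G → ℂ) 1 = 8 * (s : ℂ) ^ 2 + 1 ∧
      ∀ g, cfC φ g = 1 + (X₁ : G → ℂ) g - (X₂ : G → ℂ) g := by
  obtain ⟨X₁, X₂, ε₁, ε₂, -, -, -, hε₁, hε₂, hdec⟩ := h.cfC_decomp
  have hstar := h.star_eq X₁ X₂ (ε₁ : ℂ) (ε₂ : ℂ) hdec (φ (sr 0, 1)) (S3Cfg.a_sq φ)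
  have hcnt : Nat.card {p : NM × NM // IsConj (φ (sr 0, 1)) (φ p.1) ∧
      IsConj (φ (sr 0, 1)) (φ p.2) ∧ (p.1 * p.2).2 ^ 2 ≠ 1} = 54 := by
    rw [← nm_count54]
    exact Nat.card_congr (Equiv.subtypeEquivRight
      (fun p => and_congr (hA p.1) (and_congr (hA p.2) Iff.rfl)))
  rw [hcnt, hc] at hstar
  have hG : (Nat.card G : ℂ) ≠ 0 := by exact_mod_cast Nat.card_pos.ne'
  obtain ⟨d₁, hd₁pos, hd₁⟩ := Helper3.irr_apply_one_eq_nat X₁.2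
  obtain ⟨d₂, hd₂pos, hd₂⟩ := Helper3.irr_apply_one_eq_nat X₂.2
  obtain ⟨k₁, hk₁⟩ := Cfsg.Agent.Helper39.s3_invol_int (Helper79.irr_isCharacter X₁) (S3Cfg.a_sq φ)
  obtain ⟨k₂, hk₂⟩ := Cfsg.Agent.Helper39.s3_invol_int (Helper79.irr_isCharacter X₂) (S3Cfg.a_sq φ)
  have hone : (1 : ℂ) + (ε₁ : ℂ) * (X₁ : G → ℂ) 1 + (ε₂ : ℂ) * (X₂ : G → ℂ) 1 = 0 := by
    rw [← hdec 1]; exact h.cfC_eq_zero_of_sq (one_pow 2)
  have hu0 : (1 : ℂ) + (ε₁ : ℂ) * (X₁ : G → ℂ) (φ (sr 0, 1)) +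
      (ε₂ : ℂ) * (X₂ : G → ℂ) (φ (sr 0, 1)) = 0 := by
    rw [← hdec (φ (sr 0, 1))]; exact h.cfC_eq_zero_of_sq (S3Cfg.a_sq φ)
  rw [hd₁, hd₂] at hone
  rw [hk₁, hk₂] at hu0
  rw [hd₁, hd₂, hk₁, hk₂] at hstar
  have hZ1 : (1 : ℤ) + ε₁ * (d₁ : ℤ) + ε₂ * (d₂ : ℤ) = 0 := by exact_mod_cast hone
  have hZu : (1 : ℤ) + ε₁ * k₁ + ε₂ * k₂ = 0 := by exact_mod_cast hu0
  have hd₁0 : (d₁ : ℂ) ≠ 0 := by exact_mod_cast hd₁pos.ne'
  have hd₂0 : (d₂ : ℂ) ≠ 0 := by exact_mod_cast hd₂pos.ne'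
  have he1 : ε₁ * ε₁ = 1 := by rcases hε₁ with h' | h' <;> rw [h'] <;> norm_num
  have he2 : ε₂ * ε₂ = 1 := by rcases hε₂ with h' | h' <;> rw [h'] <;> norm_num
  -- the equation `1 + ε₁ k₁² / d₁ + ε₂ k₂² / d₂ = 9 / 8`
  have h98 : (1 : ℂ) + (ε₁ : ℂ) * (k₁ : ℂ) ^ 2 / (d₁ : ℂ) + (ε₂ : ℂ) * (k₂ : ℂ) ^ 2 / (d₂ : ℂ)
      = 9 / 8 := by
    have h1 : (Nat.card G : ℂ) ^ 2 * ((1 : ℂ) + (ε₁ : ℂ) * (k₁ : ℂ) ^ 2 / (d₁ : ℂ) +
        (ε₂ : ℂ) * (k₂ : ℂ) ^ 2 / (d₂ : ℂ)) = (Nat.card G : ℂ) ^ 2 * (9 / 8) := by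
      rw [hstar]; push_cast; ring
    exact mul_left_cancel₀ (pow_ne_zero 2 hG) h1
  -- integers x = ε₁ d₁, P = ε₁ k₁
  have hkey : 8 * (ε₁ * (d₁ : ℤ) - ε₁ * k₁) ^ 2 = 9 * (ε₁ * (d₁ : ℤ)) * (1 + ε₁ * (d₁ : ℤ)) := by
    have hC : (8 : ℂ) * ((ε₁ : ℂ) * (d₁ : ℂ) - (ε₁ : ℂ) * (k₁ : ℂ)) ^ 2 =
        9 * ((ε₁ : ℂ) * (d₁ : ℂ)) * (1 + (ε₁ : ℂ) * (d₁ : ℂ)) := by
      have e1 : (ε₁ : ℂ) * (ε₁ : ℂ) = 1 := by exact_mod_cast he1
      have e2 : (ε₂ : ℂ) * (ε₂ : ℂ) = 1 := by exact_mod_cast he2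
      have hy : (ε₂ : ℂ) * (d₂ : ℂ) = -1 - (ε₁ : ℂ) * (d₁ : ℂ) := by linear_combination hone
      have hQ : (ε₂ : ℂ) * (k₂ : ℂ) = -1 - (ε₁ : ℂ) * (k₁ : ℂ) := by linear_combination hu0
      have h3 : (ε₂ : ℂ) ≠ 0 := fun h' => by rw [h'] at e2; simp at e2
      have h4 : (ε₁ : ℂ) ≠ 0 := fun h' => by rw [h'] at e1; simp at e1
      have hx0 : (ε₁ : ℂ) * (d₁ : ℂ) ≠ 0 := mul_ne_zero h4 hd₁0
      have hy0 : (ε₂ : ℂ) * (d₂ : ℂ) ≠ 0 := mul_ne_zero h3 hd₂0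
      have t1 : (ε₁ : ℂ) * (k₁ : ℂ) ^ 2 / (d₁ : ℂ) =
          ((ε₁ : ℂ) * (k₁ : ℂ)) ^ 2 / ((ε₁ : ℂ) * (d₁ : ℂ)) := by
        field_simp
      have t2 : (ε₂ : ℂ) * (k₂ : ℂ) ^ 2 / (d₂ : ℂ) =
          ((ε₂ : ℂ) * (k₂ : ℂ)) ^ 2 / ((ε₂ : ℂ) * (d₂ : ℂ)) := by
        field_simp
      have h5 : ((ε₁ : ℂ) * (k₁ : ℂ)) ^ 2 / ((ε₁ : ℂ) * (d₁ : ℂ)) +
          ((ε₂ : ℂ) * (k₂ : ℂ)) ^ 2 / ((ε₂ : ℂ) * (d₂ : ℂ)) = 1 / 8 := by
        rw [← t1, ← t2]; linear_combination h98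
      rw [div_add_div _ _ hx0 hy0, div_eq_iff (mul_ne_zero hx0 hy0)] at h5
      rw [hy, hQ] at h5
      linear_combination (-8 : ℂ) * h5
    exact_mod_cast hC
  have hx0 : ε₁ * (d₁ : ℤ) ≠ 0 := by
    rcases hε₁ with h' | h' <;> rw [h'] <;> omega
  have hx1 : ε₁ * (d₁ : ℤ) ≠ -1 := by
    intro h'
    have : ε₂ * (d₂ : ℤ) = 0 := by linarith
    rcases hε₂ with h'' | h'' <;> rw [h''] at this <;> omega
  obtain ⟨s, hs0, hs⟩ := Cfsg.Agent.Helper10.s3_pell (ε₁ * (d₁ : ℤ)) (ε₁ * k₁) hkey hx0 hx1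
  have hsabs : (s.natAbs : ℤ) ^ 2 = s ^ 2 := Int.natAbs_sq s
  have hsabs0 : s.natAbs ≠ 0 := Int.natAbs_ne_zero.mpr hs0
  have hspos : 0 < s ^ 2 := by positivity
  rcases hs with hs | hs
  · -- ε₁ = 1, d₁ = 8 s², ε₂ = -1, d₂ = 8 s² + 1
    have e1 : ε₁ = 1 := by
      rcases hε₁ with h' | h'
      · exact h'
      · rw [h'] at hs; nlinarith
    have e2 : ε₂ = -1 := by
      rcases hε₂ with h' | h'
      · rw [h', e1] at hZ1; nlinarith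
      · exact h'
    rw [e1, one_mul] at hs
    rw [e1, e2] at hZ1
    refine ⟨X₁, X₂, s.natAbs, hsabs0, ?_, ?_, ?_⟩
    · rw [hd₁]
      have : (d₁ : ℤ) = 8 * (s.natAbs : ℤ) ^ 2 := by rw [hsabs]; exact hs
      exact_mod_cast this
    · rw [hd₂]
      have : (d₂ : ℤ) = 8 * (s.natAbs : ℤ) ^ 2 + 1 := by rw [hsabs]; linarith
      exact_mod_cast this
    · intro g
      rw [hdec g, e1, e2]; push_cast; ring
  · -- ε₁ = -1, d₁ = 8 s² + 1, ε₂ = 1, d₂ = 8 s²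
    have e1 : ε₁ = -1 := by
      rcases hε₁ with h' | h'
      · rw [h'] at hs; nlinarith
      · exact h'
    have e2 : ε₂ = 1 := by
      rcases hε₂ with h' | h'
      · exact h'
      · rw [h', e1] at hZ1; nlinarith
    rw [e1] at hs
    rw [e1, e2] at hZ1
    refine ⟨X₂, X₁, s.natAbs, hsabs0, ?_, ?_, ?_⟩
    · rw [hd₂]
      have : (d₂ : ℤ) = 8 * (s.natAbs : ℤ) ^ 2 := by rw [hsabs]; linarith
      exact_mod_cast this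
    · rw [hd₁]
      have : (d₁ : ℤ) = 8 * (s.natAbs : ℤ) ^ 2 + 1 := by rw [hsabs]; linarith
      exact_mod_cast this
    · intro g
      rw [hdec g, e1, e2]; push_cast; ring

/-- The case `a ∼ ab` is impossible. -/
theorem S3Cfg.case3 (h : S3Cfg φ)
    (hab : ¬ IsConj (φ (sr 0, 1)) (φ (1, sr 0))) (had : IsConj (φ (sr 0, 1)) (φ (sr 0, sr 0))) :
    False := by
  have hbd : ¬ IsConj (φ (1, sr 0)) (φ (sr 0, sr 0)) := fun hbd => hab (had.trans hbd.symm)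
  have hB := h.typeB_of_not_isConj hab hbd
  have hA := h.typeAD_iff hab had
  obtain ⟨E, R, hE1, hR1, hEb, hRb, hdecR⟩ := h.case3_ER hB
  -- `E` is linear
  have hEdeg : charDegree (E : G → ℂ) = 1 := by
    have := Helper80.irr_one_eq E
    rw [hE1] at this
    exact_mod_cast this.symm
  obtain ⟨f, hf⟩ := Helper80.exists_hom_of_linear E hEdeg
  have hfE : ∀ g, (E : G → ℂ) g = ((f g : ℂˣ) : ℂ) := by
    intro g; rw [← hf]; rfl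
  have hfb : f (φ (1, sr 0)) = 1 := by
    apply Units.ext; rw [← hfE, hEb]; rfl
  have hfa2 : ((f (φ (sr 0, 1)) : ℂˣ) : ℂ) ^ 2 = 1 := by
    rw [← Units.val_pow_eq_pow_val, ← map_pow, S3Cfg.a_sq, map_one]; rfl
  -- the class-multiplication equation for the swapped configuration at `a`
  have h' := h.swap
  have hdecR' : ∀ g, cfC (φ.comp nmSwap) g =
      1 + (1 : ℂ) * (E : G → ℂ) g + (-1 : ℂ) * (R : G → ℂ) g := by
    intro g; rw [hdecR g]; ring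
  have hstar := h'.star_eq E R 1 (-1) hdecR' (φ (sr 0, 1)) (S3Cfg.a_sq φ)
  have hcnt : Nat.card {p : NM × NM // IsConj (φ (sr 0, 1)) ((φ.comp nmSwap) p.1) ∧
      IsConj (φ (sr 0, 1)) ((φ.comp nmSwap) p.2) ∧ (p.1 * p.2).2 ^ 2 ≠ 1} = 96 := by
    rw [← nm_count96]
    exact Nat.card_congr (Equiv.subtypeEquivRight
      (fun p => and_congr (hA (nmSwap p.1)) (and_congr (hA (nmSwap p.2)) Iff.rfl)))
  rw [hcnt, hE1, hR1] at hstar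
  have ha0 : (1 : ℂ) + (E : G → ℂ) (φ (sr 0, 1)) - (R : G → ℂ) (φ (sr 0, 1)) = 0 := by
    rw [← hdecR]; exact h'.cfC_eq_zero_of_sq (S3Cfg.a_sq φ)
  have hG : (Nat.card G : ℂ) ≠ 0 := by exact_mod_cast Nat.card_pos.ne'
  have hc0 : (Nat.card (Subgroup.centralizer ({φ (sr 0, 1)} : Set G)) : ℂ) ≠ 0 := by
    exact_mod_cast Nat.card_pos.ne'
  have hfa : ((f (φ (sr 0, 1)) : ℂˣ) : ℂ) = -1 := by
    have h1 : (((f (φ (sr 0, 1)) : ℂˣ) : ℂ) - 1) * (((f (φ (sr 0, 1)) : ℂˣ) : ℂ) + 1) = 0 := by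
      linear_combination hfa2
    rcases mul_eq_zero.mp h1 with h2 | h2
    · exfalso
      have e1 : (E : G → ℂ) (φ (sr 0, 1)) = 1 := by rw [hfE]; linear_combination h2
      have e2 : (R : G → ℂ) (φ (sr 0, 1)) = 2 := by rw [e1] at ha0; linear_combination -ha0
      rw [e1, e2] at hstar
      have h3 : (Nat.card G : ℂ) / 12 *
          (Nat.card (Subgroup.centralizer ({φ (sr 0, 1)} : Set G)) : ℂ) ^ 2 * ((96 : ℕ) : ℂ) = 0 := by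
        rw [← hstar]; ring
      have h4 : (Nat.card G : ℂ) / 12 *
          (Nat.card (Subgroup.centralizer ({φ (sr 0, 1)} : Set G)) : ℂ) ^ 2 * ((96 : ℕ) : ℂ) ≠ 0 := by
        refine mul_ne_zero (mul_ne_zero (div_ne_zero hG (by norm_num)) (pow_ne_zero 2 hc0)) ?_
        norm_num
      exact h4 h3
    · linear_combination h2
  have hRa : (R : G → ℂ) (φ (sr 0, 1)) = 0 := by
    rw [hfE, hfa] at ha0; linear_combination -ha0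
  have hc : (Nat.card (Subgroup.centralizer ({φ (sr 0, 1)} : Set G)) : ℂ) ^ 2 =
      (Nat.card G : ℂ) / 4 := by
    rw [hfE, hfa, hRa] at hstar
    have h5 : (Nat.card G : ℂ) * ((Nat.card (Subgroup.centralizer ({φ (sr 0, 1)} : Set G)) : ℂ) ^ 2)
        = (Nat.card G : ℂ) * ((Nat.card G : ℂ) / 4) := by
      have := hstar
      push_cast at this
      linear_combination (-1 / 8 : ℂ) * this
    exact mul_left_cancel₀ hG h5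
  obtain ⟨X₁, X₂, s, hs, hd₁, hd₂, hdec⟩ := h.case3_X hA hc
  have hfa' : f (φ (sr 0, 1)) = -1 := Units.ext (by rw [hfa]; simp)
  have hsC : (8 : ℂ) * (s : ℂ) ^ 2 ≠ 0 := by
    have : (s : ℂ) ≠ 0 := by exact_mod_cast hs
    exact mul_ne_zero (by norm_num) (pow_ne_zero 2 this)
  have hd₁ne : (X₁ : G → ℂ) 1 ≠ 1 := by
    rw [hd₁]
    intro h1
    have h2 : 8 * s ^ 2 = 1 := by exact_mod_cast h1
    omega
  have hd₂ne : (X₂ : G → ℂ) 1 ≠ 1 := by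
    rw [hd₂]
    intro h1
    exact hsC (by linear_combination h1)
  have hdne : (X₁ : G → ℂ) 1 ≠ (X₂ : G → ℂ) 1 := by
    rw [hd₁, hd₂]
    intro h1
    have : (0 : ℂ) = 1 := by linear_combination h1
    exact zero_ne_one this
  have hTS := fun f hf => Cfsg.Agent.Helper14.s3_cfC_inner h f hf
  have htw := Cfsg.Agent.Helper66.s3_twist_ne h hTS f hfa' hfb X₁ X₂ hdec hd₁ne hd₂ne hdne
  exact Cfsg.Agent.Helper31.s3_case3_end h (fun X hX z hz hr => Cfsg.Agent.Helper39.s3_order_three hX hz hr) f hfa' hfb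
    R hR1 hRb (fun g => by rw [hdecR g, hfE g]) X₁ X₂ hdec s hs hd₁ hd₂ htw.1 htw.2

/-- **Main theorem of the configuration**: `N = G`. -/
theorem S3Cfg.surjective (h : S3Cfg φ) : Function.Surjective φ := by
  have hab := Cfsg.Agent.Helper78.s3_not_isConj h
  by_cases had : IsConj (φ (sr 0, 1)) (φ (sr 0, sr 0))
  · exact (h.case3 hab had).elim
  by_cases hbd : IsConj (φ (1, sr 0)) (φ (sr 0, sr 0))
  · exfalso
    exact h.swap.case3 (fun hc => hab hc.symm) hbd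
  · exact h.case1 (h.typeA_of_not_isConj hab had) (h.typeB_of_not_isConj hab hbd)

end

end Cfsg.Agent.Helper16
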