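import Cfsg.Agent.Helper16.TwistGen
import Cfsg.Agent.Helper16.BlockOrth
import Cfsg.Agent.Helper16.DefectGroup

/-!
# Zeros of characters off the defect groups

`irr_eq_zero_of_pPart_not_mem_defectGroup`: if the `p`-part of `g` lies in no defect group of the
block of the irreducible character `χ`, then `χ g = 0` (Green's theorem on zeros of characters for
blocks).  The proof realises the block, as a bimodule, as a direct summand of the permutation
module on `G × K`, where `K` is a defect class, and applies the permutation twist lemma.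
-/

set_option autoImplicit false
open Cfsg
open scoped ComplexConjugate

namespace Cfsg.Agent.Helper16

universe u

variable {G : Type u} [Group G] [Fintype G]

/-- From the vanishing of the twisted sum of block coefficients to the vanishing of the sum of
character values. -/
theorem finsum_block_mul_conj_eq_zero_of_sum {B : Set (Cfsg.IrrCharacter G)} {x y : G}
    (h : ∑ g : G, Cfsg.blockCoeff B (x * g⁻¹ * y⁻¹ * g) = 0) :
    ∑ᶠ χ ∈ B, (χ : G → ℂ) x * conj ((χ : G → ℂ) y) = 0 := by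
  classical
  have := Fintype.ofFinite (Cfsg.IrrCharacter G)
  have hcard : (Nat.card G : ℂ) ≠ 0 := by
    simp [Nat.card_eq_fintype_card]
  have h1 : ∑ g : G, Cfsg.blockCoeff B (x * g⁻¹ * y⁻¹ * g)
      = ∑ χ : Cfsg.IrrCharacter G, if χ ∈ B then (χ : G → ℂ) y * (χ : G → ℂ) x⁻¹ else 0 := by
    simp only [Helper77.blockCoeff_eq_sum, Finset.mul_sum]
    rw [Finset.sum_comm]
    refine Finset.sum_congr rfl fun χ _ => ?_
    by_cases hχ : χ ∈ B
    · simp only [if_pos hχ]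
      have h2 : ∀ g : G, (x * g⁻¹ * y⁻¹ * g)⁻¹ = g⁻¹ * y * g * x⁻¹ := by intro g; group
      simp only [h2]
      rw [← Finset.mul_sum, ← Finset.mul_sum, Helper77.sum_irr_conj_mul]
      have h0 := Helper81.irr_one_ne_zero χ
      field_simp
    · simp only [if_neg hχ, mul_zero, Finset.sum_const_zero]
  rw [h1] at h
  rw [finsum_mem_def, finsum_eq_sum_of_fintype]
  have h3 : ∑ χ : Cfsg.IrrCharacter G, Set.indicator B
      (fun χ : Cfsg.IrrCharacter G => (χ : G → ℂ) x * conj ((χ : G → ℂ) y)) χ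
      = conj (∑ χ : Cfsg.IrrCharacter G,
          if χ ∈ B then (χ : G → ℂ) y * (χ : G → ℂ) x⁻¹ else 0) := by
    rw [map_sum]
    refine Finset.sum_congr rfl fun χ _ => ?_
    rw [Set.indicator_apply]
    by_cases hχ : χ ∈ B
    · rw [if_pos hχ, if_pos hχ, Helper77.irr_inv, map_mul, Complex.conj_conj, mul_comm]
    · rw [if_neg hχ, if_neg hχ, map_zero]
  rw [h3, h, map_zero]

/-- If the sum over a set of irreducible characters of `|χ g|²` vanishes, each `χ g` vanishes. -/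
theorem irr_eq_zero_of_finsum_block {B : Set (Cfsg.IrrCharacter G)} {g : G}
    (h : ∑ᶠ χ ∈ B, (χ : G → ℂ) g * conj ((χ : G → ℂ) g) = 0) {χ : Cfsg.IrrCharacter G}
    (hχ : χ ∈ B) : (χ : G → ℂ) g = 0 := by
  classical
  have := Fintype.ofFinite (Cfsg.IrrCharacter G)
  rw [finsum_mem_def, finsum_eq_sum_of_fintype] at h
  have h2 : ∀ χ' : Cfsg.IrrCharacter G, Set.indicator B
      (fun χ : Cfsg.IrrCharacter G => (χ : G → ℂ) g * conj ((χ : G → ℂ) g)) χ'
      = ((if χ' ∈ B then Complex.normSq ((χ' : G → ℂ) g) else 0 : ℝ) : ℂ) := by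
    intro χ'
    rw [Set.indicator_apply]
    by_cases hχ' : χ' ∈ B
    · rw [if_pos hχ', if_pos hχ', Complex.mul_conj]
    · rw [if_neg hχ', if_neg hχ', Complex.ofReal_zero]
  simp only [h2] at h
  rw [← Complex.ofReal_sum] at h
  have h3 := Complex.ofReal_eq_zero.mp h
  have h4 := (Finset.sum_eq_zero_iff_of_nonneg (fun χ' _ => by
    by_cases hχ' : χ' ∈ B
    · rw [if_pos hχ']; exact Complex.normSq_nonneg _
    · rw [if_neg hχ'])).mp h3 χ (Finset.mem_univ _)
  rw [if_pos hχ] at h4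
  exact Complex.normSq_eq_zero.mp h4

/-- **Zeros of characters off the defect groups.**  If the `p`-part `x` of `g` lies in no defect
group of the block of `χ`, then `χ g = 0`. -/
theorem irr_eq_zero_of_pPart_not_mem_defectGroup {p : ℕ} [Fact p.Prime] {M : Ideal Cfsg.AlgInt}
    (hM : Cfsg.IsPModular p M) (χ : Cfsg.IrrCharacter G) {g x : G} (hx : Cfsg.IsPPart p g x)
    (hD : ∀ D : Subgroup G, Cfsg.IsDefectGroup p M (Cfsg.blockOf M (χ : G → ℂ)) D → x ∉ D) :
    (χ : G → ℂ) g = 0 := by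
  classical
  have hMm := hM.2.1
  have hB : Cfsg.IsPBlock M (Cfsg.blockOf M (χ : G → ℂ)) := ⟨χ, rfl⟩
  have hχB : χ ∈ Cfsg.blockOf M (χ : G → ℂ) := sameBlock_refl hMm _
  obtain ⟨y, hy⟩ := Helper77.exists_isDefectClass hMm hB
  obtain ⟨z, hzcl, hzS, hez⟩ := exists_blockCoeff_eq_conv hMm hB y ⟨χ, hχB, hy.2.2 χ hχB⟩
  -- the permutations
  let σ : Equiv.Perm G := (MulAut.conj g).toEquiv
  have hσ : ∀ γ, σ γ = g * γ * g⁻¹ := fun γ => rfl
  let τ : Equiv.Perm (G × {t : G // IsConj y t}) :=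
    { toFun := fun a => (g * a.1 * g⁻¹, ⟨g * a.2.1 * g⁻¹, a.2.2.trans (isConj_iff.mpr ⟨g, rfl⟩)⟩)
      invFun := fun a => (g⁻¹ * a.1 * g,
        ⟨g⁻¹ * a.2.1 * g, a.2.2.trans (isConj_iff.mpr ⟨g⁻¹, by rw [inv_inv]⟩)⟩)
      left_inv := fun a => by
        refine Prod.ext ?_ (Subtype.ext ?_)
        · show g⁻¹ * (g * a.1 * g⁻¹) * g = a.1
          group
        · show g⁻¹ * (g * a.2.1 * g⁻¹) * g = a.2.1
          group
      right_inv := fun a => by
        refine Prod.ext ?_ (Subtype.ext ?_)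
        · show g * (g⁻¹ * a.1 * g) * g⁻¹ = a.1
          group
        · show g * (g⁻¹ * a.2.1 * g) * g⁻¹ = a.2.1
          group }
  have hτ1 : ∀ a, (τ a).1 = g * a.1 * g⁻¹ := fun a => rfl
  have hτ2 : ∀ a, (τ a).2.1 = g * a.2.1 * g⁻¹ := fun a => rfl
  have hτpow : ∀ (k : ℕ) (a : G × {t : G // IsConj y t}),
      ((τ ^ k) a).2.1 = g ^ k * a.2.1 * (g ^ k)⁻¹ := by
    intro k
    induction k with
    | zero => intro a; simp
    | succ k ih =>
      intro a
      rw [pow_succ', Equiv.Perm.mul_apply, hτ2, ih, pow_succ']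
      group
  have key := sum_factor_perm_eq_zero p M hM
    (i := fun (a : G × {t : G // IsConj y t}) (γ : G) => if a.1 = γ then (1 : ℂ) else 0)
    (q := fun (γ : G) (a : G × {t : G // IsConj y t}) => z (a.2.1⁻¹ * a.1⁻¹ * γ))
    (R := fun γ γ' => Cfsg.blockCoeff (Cfsg.blockOf M (χ : G → ℂ)) (γ'⁻¹ * γ))
    ?_ ?_ ?_ ?_ τ σ ?_ ?_ ?_
  · have h1 : ∑ γ : G, Cfsg.blockCoeff (Cfsg.blockOf M (χ : G → ℂ)) (g * γ⁻¹ * g⁻¹ * γ) = 0 := by
      rw [← key]
      refine Finset.sum_congr rfl fun γ _ => ?_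
      rw [hσ]
      congr 1
      group
    exact irr_eq_zero_of_finsum_block (finsum_block_mul_conj_eq_zero_of_sum h1) hχB
  · intro a γ
    by_cases h : a.1 = γ
    · simp only [if_pos h]; exact Helper77.memLocalRing_one hMm
    · simp only [if_neg h]; exact Helper77.memLocalRing_zero hMm
  · intro γ a
    exact hzS _
  · intro γ γ'
    rw [Fintype.sum_prod_type, Finset.sum_comm]
    simp only [mul_ite, mul_one, mul_zero, Finset.sum_ite_eq', Finset.mem_univ, if_true]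
    rw [hez]
    simp only [Helper81.conv, Helper81.classInd]
    rw [← Finset.sum_subtype (Finset.univ.filter (fun t : G => IsConj y t)) (by simp)
      (fun t => z (t⁻¹ * γ'⁻¹ * γ)), Finset.sum_filter]
    refine Finset.sum_congr rfl fun t _ => ?_
    by_cases ht : IsConj y t
    · rw [if_pos ht, if_pos ht, one_mul, mul_assoc]
    · rw [if_neg ht, if_neg ht, zero_mul]
  · intro γ γ'
    have h1 : ∑ x : G, Cfsg.blockCoeff (Cfsg.blockOf M (χ : G → ℂ)) x *
          Cfsg.blockCoeff (Cfsg.blockOf M (χ : G → ℂ)) (x⁻¹ * (γ'⁻¹ * γ))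
        = Cfsg.blockCoeff (Cfsg.blockOf M (χ : G → ℂ)) (γ'⁻¹ * γ) :=
      congrFun (Helper77.conv_blockCoeff (Cfsg.blockOf M (χ : G → ℂ))) (γ'⁻¹ * γ)
    rw [← h1, ← Equiv.sum_comp (Equiv.mulLeft γ'⁻¹) (fun x =>
      Cfsg.blockCoeff (Cfsg.blockOf M (χ : G → ℂ)) x *
        Cfsg.blockCoeff (Cfsg.blockOf M (χ : G → ℂ)) (x⁻¹ * (γ'⁻¹ * γ)))]
    refine Finset.sum_congr rfl fun κ _ => ?_
    rw [Equiv.coe_mulLeft, mul_comm]
    have : (γ'⁻¹ * κ)⁻¹ * (γ'⁻¹ * γ) = κ⁻¹ * γ := by group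
    rw [this]
  · intro a γ
    show (if g * a.1 * g⁻¹ = g * γ * g⁻¹ then (1 : ℂ) else 0) = if a.1 = γ then 1 else 0
    have : g * a.1 * g⁻¹ = g * γ * g⁻¹ ↔ a.1 = γ := by
      constructor
      · intro h
        have := mul_right_cancel h
        exact mul_left_cancel this
      · intro h; rw [h]
    simp only [this]
  · intro γ a
    show z ((g * a.2.1 * g⁻¹)⁻¹ * (g * a.1 * g⁻¹)⁻¹ * (g * γ * g⁻¹)) = z (a.2.1⁻¹ * a.1⁻¹ * γ)
    have : (g * a.2.1 * g⁻¹)⁻¹ * (g * a.1 * g⁻¹)⁻¹ * (g * γ * g⁻¹)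
        = g * (a.2.1⁻¹ * a.1⁻¹ * γ) * g⁻¹ := by group
    rw [this]
    exact hzcl _ g
  · intro a k hk
    by_contra hpk
    obtain ⟨i, hi⟩ := isPPart_mem_zpowers_pow hx hpk
    have h1 := hτpow k a
    rw [hk] at h1
    have h2 : Commute (g ^ k) a.2.1 := by
      show g ^ k * a.2.1 = a.2.1 * g ^ k
      calc g ^ k * a.2.1 = g ^ k * a.2.1 * (g ^ k)⁻¹ * g ^ k := by group
        _ = a.2.1 * g ^ k := by rw [← h1]
    have h3 : Commute x a.2.1 := by
      rw [← hi]
      exact h2.pow_left i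
    have hxC : x ∈ Subgroup.centralizer ({a.2.1} : Set G) := by
      rw [Subgroup.mem_centralizer_iff]
      intro t ht
      rw [Set.mem_singleton_iff] at ht
      rw [ht]
      exact h3.symm
    have hdef : Cfsg.IsDefectClass M (Cfsg.blockOf M (χ : G → ℂ)) a.2.1 := by
      obtain ⟨c, hc⟩ := isConj_iff.mp a.2.2
      rw [← hc]
      exact isDefectClass_conj hy c
    have hx' := hx
    obtain ⟨-, -, -, ⟨j, hj⟩, -⟩ := hx'
    have hpg : IsPGroup p (Subgroup.zpowers (⟨x, hxC⟩ : Subgroup.centralizer ({a.2.1} : Set G))) := by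
      apply IsPGroup.of_card (n := j)
      rw [Nat.card_zpowers, ← hj]
      exact Subgroup.orderOf_mk x hxC
    obtain ⟨S, hS⟩ := hpg.exists_le_sylow
    refine hD _ ⟨a.2.1, hdef, S, rfl⟩ ?_
    exact ⟨⟨x, hxC⟩, hS (Subgroup.mem_zpowers _), rfl⟩

end Cfsg.Agent.Helper16
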